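import Mathlib
import Cfsg.Agent.S2475
import Cfsg.Agent.ClassicalGeometry.PSL2Basic

/-!
# Cocliques of odd primes in `PSL 2 F` (helper224, S3479)

* `Cq G ρ` : `ρ` is a coclique of the prime graph of `G`;
* `psl2` : a coclique of odd primes of `PSL 2 F` has at most three elements.
-/

set_option autoImplicit false

namespace Cfsg.Agent.H224.F4R

/-- a coclique of the prime graph -/
def Cq (G : Type*) [Group G] (ρ : Finset ℕ) : Prop :=
  (∀ r ∈ ρ, r.Prime ∧ r ∣ Nat.card G) ∧ (∀ r ∈ ρ, ∀ s ∈ ρ, r ≠ s → ¬ ∃ x : G, orderOf x = r * s)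

theorem Cq.congr {G H : Type*} [Group G] [Group H] (e : G ≃* H) {ρ : Finset ℕ} (h : Cq G ρ) : Cq H ρ := by
  refine ⟨fun r hr => ⟨(h.1 r hr).1, ?_⟩, ?_⟩
  · rw [← Nat.card_congr e.toEquiv]
    exact (h.1 r hr).2
  · rintro r hr s hs hrs ⟨x, hx⟩
    exact h.2 r hr s hs hrs ⟨e.symm x, by
      rw [← hx]; exact orderOf_injective e.symm.toMonoidHom e.symm.injective x⟩

theorem card_le_one_of {σ : Finset ℕ} {G : Type*} [Group G] {N : ℕ} (hσ : Cq G σ)
    (hN : ∀ c : ℕ, c ∣ N → ∃ g : G, orderOf g = c) : (σ.filter fun r => r ∣ N).card ≤ 1 := by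
  rw [Finset.card_le_one]
  intro a ha b hb
  rw [Finset.mem_filter] at ha hb
  by_contra hab
  refine hσ.2 a ha.1 b hb.1 hab (hN _ ?_)
  exact Nat.Coprime.mul_dvd_of_dvd_of_dvd
    ((Nat.coprime_primes (hσ.1 a ha.1).1 (hσ.1 b hb.1).1).2 hab) ha.2 hb.2

/-- A coclique of odd primes of `PSL 2 F` has at most three elements. -/
theorem psl2 {F : Type*} [Field F] [Fintype F] {σ : Finset ℕ}
    (hσ : Cq (Matrix.ProjectiveSpecialLinearGroup (Fin 2) F) σ) (h2 : 2 ∉ σ) : σ.card ≤ 3 := by
  classical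
  obtain ⟨p, hc⟩ := CharP.exists F
  have hp : Fact p.Prime := ⟨CharP.char_is_prime F p⟩
  rcases Nat.lt_or_ge (Fintype.card F) 4 with h4 | h4
  · have h1 : 1 < Fintype.card F := Fintype.one_lt_card
    have hcard : Nat.card (Matrix.ProjectiveSpecialLinearGroup (Fin 2) F) ∣ 24 := by
      have h3 : Nat.card (Matrix.ProjectiveSpecialLinearGroup (Fin 2) F) ∣
          Nat.card (Matrix.SpecialLinearGroup (Fin 2) F) := by
        rw [Subgroup.card_eq_card_quotient_mul_card_subgroup (Subgroup.center (Matrix.SpecialLinearGroup (Fin 2) F))]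
        exact dvd_mul_right _ _
      refine h3.trans ?_
      rw [Cfsg.Agent.ClassicalGeometry.PSL2Basic.card_SL2]
      have h5 : Fintype.card F = 2 ∨ Fintype.card F = 3 := by omega
      rcases h5 with h5 | h5 <;> rw [h5] <;> norm_num
    have hsub : σ ⊆ {3} := by
      intro r hr
      have h5 := (hσ.1 r hr).2.trans hcard
      have h6 := (hσ.1 r hr).1
      have h7 : r ∣ 2 ^ 3 * 3 := by simpa using h5
      rcases (Nat.Prime.dvd_mul h6).1 h7 with h8 | h8
      · have := (Nat.prime_dvd_prime_iff_eq h6 Nat.prime_two).1 (h6.dvd_of_dvd_pow h8)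
        exact absurd (this ▸ hr) h2
      · rw [Finset.mem_singleton]
        exact (Nat.prime_dvd_prime_iff_eq h6 Nat.prime_three).1 h8
    have := Finset.card_le_card hsub
    rw [Finset.card_singleton] at this
    omega
  · have hsp := Cfsg.Agent.S2475.result (F := F) p h4
    have hmem : ∀ c : ℕ, (∃ g : Matrix.ProjectiveSpecialLinearGroup (Fin 2) F, orderOf g = c) ↔
        c ∣ p ∨ c ∣ (Fintype.card F - 1) / Nat.gcd 2 (Fintype.card F - 1) ∨
          c ∣ (Fintype.card F + 1) / Nat.gcd 2 (Fintype.card F - 1) := by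
      intro c
      have h1 : c ∈ Set.range (orderOf : Matrix.ProjectiveSpecialLinearGroup (Fin 2) F → ℕ) ↔
        c ∈ {m : ℕ | m ∣ p ∨ m ∣ (Fintype.card F - 1) / Nat.gcd 2 (Fintype.card F - 1) ∨
          m ∣ (Fintype.card F + 1) / Nat.gcd 2 (Fintype.card F - 1)} := by rw [hsp]
      exact h1
    have hfin : Finite (Matrix.ProjectiveSpecialLinearGroup (Fin 2) F) := by
      exact Finite.of_surjective (QuotientGroup.mk (s := Subgroup.center (Matrix.SpecialLinearGroup (Fin 2) F)))
        QuotientGroup.mk_surjective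
    have hsub : σ ⊆ (σ.filter fun r => r ∣ p) ∪ ((σ.filter fun r => r ∣ (Fintype.card F - 1) / Nat.gcd 2 (Fintype.card F - 1)) ∪
        (σ.filter fun r => r ∣ (Fintype.card F + 1) / Nat.gcd 2 (Fintype.card F - 1))) := by
      intro r hr
      have hrp : Fact r.Prime := ⟨(hσ.1 r hr).1⟩
      obtain ⟨g, hg⟩ := exists_prime_orderOf_dvd_card' r (hσ.1 r hr).2
      have := (hmem r).1 ⟨g, hg⟩
      simp only [Finset.mem_union, Finset.mem_filter, hr, true_and]
      exact this
    have k1 := card_le_one_of hσ (N := p) fun c hc => (hmem c).2 (Or.inl hc)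
    have k2 := card_le_one_of hσ (N := (Fintype.card F - 1) / Nat.gcd 2 (Fintype.card F - 1)) fun c hc =>
      (hmem c).2 (Or.inr (Or.inl hc))
    have k3 := card_le_one_of hσ (N := (Fintype.card F + 1) / Nat.gcd 2 (Fintype.card F - 1)) fun c hc =>
      (hmem c).2 (Or.inr (Or.inr hc))
    have h5 := Finset.card_le_card hsub
    have h6 := Finset.card_union_le (σ.filter fun r => r ∣ p) ((σ.filter fun r => r ∣ (Fintype.card F - 1) / Nat.gcd 2 (Fintype.card F - 1)) ∪
        (σ.filter fun r => r ∣ (Fintype.card F + 1) / Nat.gcd 2 (Fintype.card F - 1)))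
    have h7 := Finset.card_union_le (σ.filter fun r => r ∣ (Fintype.card F - 1) / Nat.gcd 2 (Fintype.card F - 1))
        (σ.filter fun r => r ∣ (Fintype.card F + 1) / Nat.gcd 2 (Fintype.card F - 1))
    omega

end Cfsg.Agent.H224.F4R
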