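import Mathlib
import Cfsg.Agent.H366.X.Row
import Cfsg.Agent.H224.F4R.Psl
import Cfsg.Prelude.Def_Exceptional
import Cfsg.Prelude.Def_Sporadic

/-!
# Recognition of `F4(q)`, `q` odd: the socle contains the primes of `q ^ 4 + 1` (helper224, S3479)

* `N q` : the isolated number `q ^ 4 - q ^ 2 + 1`; `Sp G q` : the facts on the set of element orders of `F4(q)` used here;
* `core` : `K` solvable, `S` the simple socle of `G ⧸ K`: `N q` is isolated in `S` and some odd prime of `q ^ 4 + 1`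
  divides the order of `S`.
-/

set_option autoImplicit false

namespace Cfsg.Agent.H224.F4R

open Cfsg Cfsg.Agent.H366.X Subgroup

universe u

/-- the isolated number -/
def N (q : ℕ) : ℕ := q ^ 4 - q ^ 2 + 1

theorem N_add (q : ℕ) : N q + q ^ 2 = q ^ 4 + 1 := by
  have h : q ^ 2 ≤ q ^ 4 := by
    rcases Nat.eq_zero_or_pos q with rfl | h
    · norm_num
    · exact Nat.pow_le_pow_right h (by norm_num)
  unfold N
  omega

theorem N_mod {q m : ℕ} (hm : 0 < m) (h : m ∣ N q) : ((q % m) ^ 4 + 1) % m = ((q % m) ^ 2) % m := by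
  have h1 := N_add q
  have h2 : (q ^ 4 + 1) % m = (q ^ 2) % m := by
    rw [← h1]
    obtain ⟨c, hc⟩ := h
    rw [hc, Nat.mul_add_mod]
  have h3 : ((q % m) ^ 4 + 1) % m = (q ^ 4 + 1) % m := by
    rw [Nat.add_mod, ← Nat.pow_mod, ← Nat.add_mod]
  rw [h3, h2, ← Nat.pow_mod]

theorem not_dvd_N {q m : ℕ} (hm : 0 < m) (h : ∀ k < m, (k ^ 4 + 1) % m ≠ (k ^ 2) % m) : ¬ m ∣ N q := fun h1 =>
  h (q % m) (Nat.mod_lt _ hm) (N_mod hm h1)

theorem not_two_dvd_N (q : ℕ) : ¬ 2 ∣ N q := not_dvd_N (by norm_num) (by decide)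

theorem not_three_dvd_N (q : ℕ) : ¬ 3 ∣ N q := not_dvd_N (by norm_num) (by decide)

theorem one_lt_N {q : ℕ} (hq : 1 < q) : 1 < N q := by
  have h1 := N_add q
  have h2 : q ^ 4 = q ^ 2 * q ^ 2 := by ring
  have h3 : 2 ^ 2 ≤ q ^ 2 := Nat.pow_le_pow_left hq 2
  nlinarith

theorem not_three_dvd8 (q : ℕ) : ¬ 3 ∣ q ^ 4 + 1 := by
  intro h
  have h1 : (q ^ 4 + 1) % 3 = 0 := Nat.mod_eq_zero_of_dvd h
  rw [Nat.add_mod, Nat.pow_mod] at h1
  have h2 := Nat.mod_lt q (show 0 < 3 by norm_num)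
  interval_cases h3 : q % 3 <;> simp at h1

/-- coprimality of the two numbers -/
theorem cop {q r : ℕ} (hr : r.Prime) (h : r ∣ N q) : ¬ r ∣ q ^ 4 + 1 := by
  intro h1
  rw [← N_add] at h1
  have h2 : r ∣ q ^ 2 := (Nat.dvd_add_right h).1 h1
  have h3 : r ∣ q := hr.dvd_of_dvd_pow h2
  have h4 : r ∣ q ^ 4 + 1 := by rw [← N_add]; exact h1
  have h5 : r ∣ 1 := (Nat.dvd_add_right (dvd_pow h3 (by norm_num))).1 h4
  exact hr.one_lt.ne' (Nat.dvd_one.1 h5)

theorem exists_odd_prime {q : ℕ} (hq : Odd q) (hq1 : 1 < q) : ∃ r : ℕ, r.Prime ∧ r ≠ 2 ∧ r ∣ q ^ 4 + 1 := by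
  have h1 : q ^ 4 % 4 = 1 := by
    have h2 := Nat.odd_iff.1 hq
    rw [Nat.pow_mod]
    have h3 : q % 4 = 1 ∨ q % 4 = 3 := by omega
    rcases h3 with h3 | h3 <;> rw [h3]
  have h2 : 16 ≤ q ^ 4 := by
    have : 2 ^ 4 ≤ q ^ 4 := Nat.pow_le_pow_left hq1 4
    simpa using this
  obtain ⟨r, hr, hrd⟩ := Nat.exists_prime_and_dvd (show (q ^ 4 + 1) / 2 ≠ 1 by omega)
  refine ⟨r, hr, ?_, hrd.trans ⟨2, by omega⟩⟩
  rintro rfl
  omega

/-- the facts on the set of element orders -/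
structure Sp (G : Type*) [Group G] (q : ℕ) : Prop where
  odd : Odd q
  one_lt : 1 < q
  two : ∃ x : G, orderOf x = 2
  three : ∃ x : G, orderOf x = 3
  elt : ∃ x : G, orderOf x = N q
  iso : ∀ (x : G) (s : ℕ), s.Prime → s ∣ N q → s ∣ orderOf x → orderOf x ∣ N q
  iso8 : ∀ (x : G) (r : ℕ), r.Prime → r ≠ 2 → r ∣ q ^ 4 + 1 → r ∣ orderOf x → orderOf x ∣ q ^ 4 + 1
  elt8 : ∀ r : ℕ, r.Prime → r ∣ q ^ 4 + 1 → ∃ x : G, orderOf x = r
  coc : ∃ a b c : ℕ, (a.Prime ∧ b.Prime ∧ c.Prime) ∧ (a ≠ 2 ∧ b ≠ 2 ∧ c ≠ 2) ∧ (a ≠ b ∧ a ≠ c ∧ b ≠ c) ∧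
    ((∃ x : G, orderOf x = a) ∧ (∃ x : G, orderOf x = b) ∧ (∃ x : G, orderOf x = c)) ∧
    (¬ a ∣ q ^ 4 + 1 ∧ ¬ b ∣ q ^ 4 + 1 ∧ ¬ c ∣ q ^ 4 + 1) ∧ (¬ a ∣ N q ∧ ¬ b ∣ N q ∧ ¬ c ∣ N q) ∧
    ((¬ ∃ x : G, orderOf x = a * b) ∧ (¬ ∃ x : G, orderOf x = a * c) ∧ (¬ ∃ x : G, orderOf x = b * c))

/-- equal spectra -/
theorem Sp.of_spec {G M : Type*} [Group G] [Group M]
    (hω : Set.range (orderOf : G → ℕ) = Set.range (orderOf : M → ℕ)) {q : ℕ} (h : Sp M q) : Sp G q := by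
  have key : ∀ m : ℕ, (∃ x : G, orderOf x = m) ↔ ∃ x : M, orderOf x = m := by
    intro m
    have : m ∈ Set.range (orderOf : G → ℕ) ↔ m ∈ Set.range (orderOf : M → ℕ) := by rw [hω]
    exact this
  refine ⟨h.odd, h.one_lt, (key _).2 h.two, (key _).2 h.three, (key _).2 h.elt, ?_, ?_, fun r hr hd => (key _).2 (h.elt8 r hr hd), ?_⟩
  · intro x s hs hsN hd
    obtain ⟨y, hy⟩ := (key _).1 ⟨x, rfl⟩
    rw [← hy] at hd ⊢
    exact h.iso y s hs hsN hd
  · intro x s hs hs2 hsN hd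
    obtain ⟨y, hy⟩ := (key _).1 ⟨x, rfl⟩
    rw [← hy] at hd ⊢
    exact h.iso8 y s hs hs2 hsN hd
  · obtain ⟨a, b, c, h1, h2, h3, h4, h5, h6, h7⟩ := h.coc
    exact ⟨a, b, c, h1, h2, h3, ⟨(key _).2 h4.1, (key _).2 h4.2.1, (key _).2 h4.2.2⟩, h5, h6,
      ⟨fun e => h7.1 ((key _).1 e), fun e => h7.2.1 ((key _).1 e), fun e => h7.2.2 ((key _).1 e)⟩⟩

namespace Sp

variable {G : Type*} [Group G] {q : ℕ}

theorem iz (h : Sp G q) : Iz G (N q) := ⟨h.elt, h.iso, not_two_dvd_N q, one_lt_N h.one_lt⟩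

theorem nadj (h : Sp G q) {s t : ℕ} (hs : s.Prime) (hsN : s ∣ N q) (ht : ¬ t ∣ N q) :
    ¬ ∃ x : G, orderOf x = s * t := by
  rintro ⟨x, hx⟩
  exact ht ((Dvd.intro_left s hx.symm).trans (h.iso x s hs hsN (hx ▸ dvd_mul_right s t)))

theorem nadj8 (h : Sp G q) {r t : ℕ} (hr : r.Prime) (hr2 : r ≠ 2) (hrN : r ∣ q ^ 4 + 1) (ht : ¬ t ∣ q ^ 4 + 1) :
    ¬ ∃ x : G, orderOf x = r * t := by
  rintro ⟨x, hx⟩
  exact ht ((Dvd.intro_left r hx.symm).trans (h.iso8 x r hr hr2 hrN (hx ▸ dvd_mul_right r t)))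

end Sp

section
variable {G : Type u} [Group G] [Finite G]

omit [Finite G] in
theorem card_split (K : Subgroup G) [K.Normal] (S : Subgroup (G ⧸ K)) :
    Nat.card G = Nat.card ↥S * (Nat.card ↥K * S.index) := by
  rw [Subgroup.card_eq_card_quotient_mul_card_subgroup K, ← S.card_mul_index]
  ring

omit [Finite G] in
theorem dvd_S (K : Subgroup G) [K.Normal] (S : Subgroup (G ⧸ K)) {r : ℕ} (hr : r.Prime) (h : r ∣ Nat.card G)
    (h1 : ¬ r ∣ Nat.card ↥K * S.index) : r ∣ Nat.card ↥S := by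
  rw [card_split K S] at h
  exact (hr.dvd_mul.1 h).resolve_right h1

theorem Cq.filter (K : Subgroup G) [K.Normal] (S : Subgroup (G ⧸ K)) {ρ : Finset ℕ} (hρ : Cq G ρ) :
    Cq ↥S (ρ.filter fun r => ¬ r ∣ Nat.card ↥K * S.index) := by
  refine ⟨?_, ?_⟩
  · intro r hr
    rw [Finset.mem_filter] at hr
    exact ⟨(hρ.1 r hr.1).1, dvd_S K S (hρ.1 r hr.1).1 (hρ.1 r hr.1).2 hr.2⟩
  · rintro r hr s hs hrs ⟨x, hx⟩
    rw [Finset.mem_filter] at hr hs
    obtain ⟨g, hg⟩ := Cfsg.Agent.H373.Recog.exists_lift K (x : G ⧸ K)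
    exact hρ.2 r hr.1 s hs.1 hrs ⟨g, by rw [hg, Subgroup.orderOf_coe, hx]⟩

omit [Finite G] in
/-- elements of the socle -/
theorem exists_socle (K : Subgroup G) [K.Normal] (S : Subgroup (G ⧸ K)) [S.Normal] {x : G}
    (h1 : Nat.Coprime (orderOf x) (Nat.card ↥K)) (h2 : Nat.Coprime (orderOf x) S.index) :
    ∃ s : ↥S, orderOf s = orderOf x := by
  have h3 : orderOf (x : G ⧸ K) = orderOf x := by
    apply Nat.dvd_antisymm (orderOf_map_dvd (QuotientGroup.mk' K) x)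
    apply orderOf_dvd_of_pow_eq_one
    set m := orderOf (x : G ⧸ K) with hm
    have h4 : x ^ m ∈ K := by
      rw [← QuotientGroup.eq_one_iff, QuotientGroup.mk_pow, pow_orderOf_eq_one]
    have h5 : orderOf (x ^ m) ∣ Nat.card ↥K := Subgroup.orderOf_dvd_natCard K h4
    have h6 : orderOf (x ^ m) ∣ orderOf x := orderOf_pow_dvd m
    have h7 : orderOf (x ^ m) ∣ 1 := by rw [← h1]; exact Nat.dvd_gcd h6 h5
    exact orderOf_eq_one_iff.1 (Nat.dvd_one.1 h7)
  have h4 : (x : G ⧸ K) ∈ S := by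
    rw [← QuotientGroup.eq_one_iff (N := S)]
    have h5 : orderOf (((x : G ⧸ K) : (G ⧸ K) ⧸ S)) ∣ orderOf x := by
      rw [← h3]
      exact orderOf_map_dvd (QuotientGroup.mk' S) _
    have h6 : orderOf (((x : G ⧸ K) : (G ⧸ K) ⧸ S)) ∣ S.index := by
      rw [Subgroup.index_eq_card]
      exact orderOf_dvd_natCard _
    have h7 : orderOf (((x : G ⧸ K) : (G ⧸ K) ⧸ S)) ∣ 1 := by rw [← h2]; exact Nat.dvd_gcd h5 h6
    exact orderOf_eq_one_iff.1 (Nat.dvd_one.1 h7)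
  exact ⟨⟨_, h4⟩, by rw [← h3, ← Subgroup.orderOf_coe]⟩

end

/-- A coclique of odd primes of the alternating group of degree seven. -/
theorem alt7 {S : Type*} [Group S] (e : S ≃* alternatingGroup (Fin 7)) {σ : Finset ℕ} (hσ : Cq S σ) (h2 : 2 ∉ σ) :
    σ.card ≤ 3 := by
  have hcard : Nat.card S = 2520 := by
    rw [Nat.card_congr e.toEquiv, nat_card_alternatingGroup]
    simp [Nat.factorial]
  have hsub : σ ⊆ {3, 5, 7} := by
    intro r hr
    have h5 := (hσ.1 r hr).2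
    have h6 := (hσ.1 r hr).1
    have h7 : r ∣ 2 ^ 3 * (3 ^ 2 * (5 * 7)) := by rw [hcard] at h5; simpa using h5
    simp only [Finset.mem_insert, Finset.mem_singleton]
    rcases (Nat.Prime.dvd_mul h6).1 h7 with h8 | h8
    · have := (Nat.prime_dvd_prime_iff_eq h6 Nat.prime_two).1 (h6.dvd_of_dvd_pow h8)
      exact absurd (this ▸ hr) h2
    · rcases (Nat.Prime.dvd_mul h6).1 h8 with h8 | h8
      · exact Or.inl ((Nat.prime_dvd_prime_iff_eq h6 Nat.prime_three).1 (h6.dvd_of_dvd_pow h8))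
      · rcases (Nat.Prime.dvd_mul h6).1 h8 with h8 | h8
        · exact Or.inr (Or.inl ((Nat.prime_dvd_prime_iff_eq h6 Nat.prime_five).1 h8))
        · exact Or.inr (Or.inr ((Nat.prime_dvd_prime_iff_eq h6 (by norm_num)).1 h8))
  have := Finset.card_le_card hsub
  have h3 : ({3, 5, 7} : Finset ℕ).card = 3 := by decide
  omega

/-- order of a Suzuki group -/
theorem not_three_dvd_suz {m : ℕ} :
    ¬ 3 ∣ (2 ^ (2 * m + 1)) ^ 2 * ((2 ^ (2 * m + 1)) ^ 2 + 1) * (2 ^ (2 * m + 1) - 1) := by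
  have h1 : 2 ^ (2 * m + 1) % 3 = 2 := by
    rw [pow_succ, pow_mul, Nat.mul_mod, Nat.pow_mod]
    norm_num
  have h2 : 1 ≤ 2 ^ (2 * m + 1) := Nat.one_le_two_pow
  generalize 2 ^ (2 * m + 1) = u at h1 h2
  have h3 : (u - 1) % 3 = 1 := by omega
  intro h
  rcases (Nat.Prime.dvd_mul Nat.prime_three).1 h with h4 | h4
  · rcases (Nat.Prime.dvd_mul Nat.prime_three).1 h4 with h5 | h5
    · have := Nat.prime_three.dvd_of_dvd_pow h5
      omega
    · have h6 : (u ^ 2 + 1) % 3 = 0 := Nat.mod_eq_zero_of_dvd h5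
      rw [Nat.add_mod, Nat.pow_mod, h1] at h6
      norm_num at h6
  · omega

/-- no prime of `N q` divides the order of `J1` -/
theorem not_dvd_J1 {q s : ℕ} (hs : s.Prime) (hsN : s ∣ N q) : ¬ s ∣ 175560 := by
  intro h
  have h7 : s ∣ 2 ^ 3 * (3 * (5 * (7 * (11 * 19)))) := by simpa using h
  have key : ∀ m : ℕ, m.Prime → (∀ k < m, (k ^ 4 + 1) % m ≠ (k ^ 2) % m) → ¬ s ∣ m := by
    intro m hm h1 h2
    rw [Nat.prime_dvd_prime_iff_eq hs hm] at h2
    exact not_dvd_N hm.pos h1 (h2 ▸ hsN)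
  rcases (Nat.Prime.dvd_mul hs).1 h7 with h8 | h8
  · exact key 2 Nat.prime_two (by decide) (hs.dvd_of_dvd_pow h8)
  rcases (Nat.Prime.dvd_mul hs).1 h8 with h8 | h8
  · exact key 3 Nat.prime_three (by decide) h8
  rcases (Nat.Prime.dvd_mul hs).1 h8 with h8 | h8
  · exact key 5 Nat.prime_five (by decide) h8
  rcases (Nat.Prime.dvd_mul hs).1 h8 with h8 | h8
  · exact key 7 (by norm_num) (by decide) h8
  rcases (Nat.Prime.dvd_mul hs).1 h8 with h8 | h8
  · exact key 11 (by norm_num) (by decide) h8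
  · exact key 19 (by norm_num) (by decide) h8

/-- **The socle, `q` odd.** -/
theorem core {G : Type u} [Group G] [Finite G] {q : ℕ} (h : Sp G q) (K : Subgroup G) [K.Normal]
    (hK : Group.IsSolvable ↥K) (S : Subgroup (G ⧸ K)) [S.Normal] [IsSimpleGroup ↥S]
    (hSc : centralizer (S : Set (G ⧸ K)) = ⊥)
    (hcoc : ∀ ρ : Finset ℕ, Cq G ρ → 3 ≤ ρ.card → ∀ p ∈ ρ, ∀ q ∈ ρ, p ∣ Nat.card ↥K * S.index →
      q ∣ Nat.card ↥K * S.index → p = q)
    (hvas : (Nonempty (↥S ≃* alternatingGroup (Fin 7)) ∨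
      (∃ (F : Type) (_ : Field F) (_ : Fintype F), Odd (Fintype.card F) ∧
        Nonempty (↥S ≃* Matrix.ProjectiveSpecialLinearGroup (Fin 2) F))) ∨
      ∀ p : ℕ, p.Prime → p ≠ 2 → p ∣ Nat.card G → (¬ ∃ x : G, orderOf x = 2 * p) →
        ¬ p ∣ Nat.card ↥K ∧ ¬ p ∣ S.index)
    (h342 : (∀ (p : ℕ) (P : Sylow p ↥S), p.Prime → p ≠ 2 → IsCyclic P) →
      (∃ (F : Type) (_ : Field F) (_ : Fintype F), Nonempty (↥S ≃* Matrix.ProjectiveSpecialLinearGroup (Fin 2) F)) ∨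
        Cfsg.IsSuzuki ↥S ∨ Cfsg.IsJ1 ↥S)
    (hrich : ∀ A : Subgroup (G ⧸ K), (Nat.card ↥A).Coprime (Nat.card ↥S) →
      ¬ Group.IsNilpotent ↥(S ⊓ centralizer (A : Set (G ⧸ K))))
    (hcyc : ∀ r s t : ℕ, r.Prime → s.Prime → t.Prime → t ≠ 2 → r ≠ s → r ≠ t → r ∣ Nat.card ↥K →
      s ∣ Nat.card ↥S → (¬ ∃ x : G, orderOf x = r * s) → ¬ t ∣ Nat.card ↥K → (¬ ∃ x : G, orderOf x = r * t) →
      ∀ P : Sylow t ↥S, IsCyclic ↥P) :
    Iz ↥S (N q) ∧ ∃ r : ℕ, r.Prime ∧ r ≠ 2 ∧ r ∣ q ^ 4 + 1 ∧ r ∣ Nat.card ↥S := by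
  classical
  have hdvd : ∀ m : ℕ, (∃ x : G, orderOf x = m) → m ∣ Nat.card G := by
    rintro m ⟨x, rfl⟩
    exact orderOf_dvd_natCard x
  obtain ⟨s, hs, hsN⟩ := Nat.exists_prime_and_dvd (one_lt_N h.one_lt).ne'
  obtain ⟨r, hr, hr2, hrN⟩ := exists_odd_prime h.odd h.one_lt
  have hs2 : s ≠ 2 := by rintro rfl; exact not_two_dvd_N q hsN
  have hsG : s ∣ Nat.card G := hsN.trans (hdvd _ h.elt)
  have hrG : r ∣ Nat.card G := hdvd _ (h.elt8 r hr hrN)
  have hrs : r ≠ s := by rintro rfl; exact cop hr hsN hrN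
  have hsN8 : ¬ s ∣ q ^ 4 + 1 := cop hs hsN
  have hrNN : ¬ r ∣ N q := fun e => cop hr e hrN
  -- the coclique with five elements
  obtain ⟨σ, hσ, hσ2, hσ4⟩ : ∃ σ : Finset ℕ, Cq ↥S σ ∧ 2 ∉ σ ∧ 4 ≤ σ.card := by
    obtain ⟨a, b, c, ⟨pa, pb, pc⟩, ⟨a2, b2, c2⟩, ⟨ab, ac, bc⟩, ⟨ea, eb, ec⟩, ⟨a8, b8, c8⟩, ⟨aN, bN, cN⟩,
      ⟨nab, nac, nbc⟩⟩ := h.coc
    have hra : r ≠ a := by rintro rfl; exact a8 hrN
    have hrb : r ≠ b := by rintro rfl; exact b8 hrN
    have hrc : r ≠ c := by rintro rfl; exact c8 hrN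
    have hsa : s ≠ a := by rintro rfl; exact aN hsN
    have hsb : s ≠ b := by rintro rfl; exact bN hsN
    have hsc : s ≠ c := by rintro rfl; exact cN hsN
    have hρ : Cq G {a, b, c, r, s} := by
      refine ⟨?_, ?_⟩
      · intro x hx
        simp only [Finset.mem_insert, Finset.mem_singleton] at hx
        rcases hx with rfl | rfl | rfl | rfl | rfl
        · exact ⟨pa, hdvd _ ea⟩
        · exact ⟨pb, hdvd _ eb⟩
        · exact ⟨pc, hdvd _ ec⟩
        · exact ⟨hr, hrG⟩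
        · exact ⟨hs, hsG⟩
      · have ra := h.nadj8 hr hr2 hrN a8
        have rb := h.nadj8 hr hr2 hrN b8
        have rc := h.nadj8 hr hr2 hrN c8
        have rs := h.nadj8 hr hr2 hrN hsN8
        have sa := h.nadj hs hsN aN
        have sb := h.nadj hs hsN bN
        have sc := h.nadj hs hsN cN
        have sr := h.nadj hs hsN hrNN
        intro x hx y hy hxy
        simp only [Finset.mem_insert, Finset.mem_singleton] at hx hy
        rcases hx with rfl | rfl | rfl | rfl | rfl <;> rcases hy with rfl | rfl | rfl | rfl | rfl <;>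
          first
          | exact absurd rfl hxy
          | assumption
          | (rw [mul_comm]; assumption)
    have hcard : ({a, b, c, r, s} : Finset ℕ).card = 5 := by
      rw [Finset.card_insert_of_notMem, Finset.card_insert_of_notMem, Finset.card_insert_of_notMem,
        Finset.card_insert_of_notMem, Finset.card_singleton]
      · simpa using hrs
      · simp only [Finset.mem_insert, Finset.mem_singleton, not_or]
        exact ⟨hrc.symm, hsc.symm⟩
      · simp only [Finset.mem_insert, Finset.mem_singleton, not_or]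
        exact ⟨bc, hrb.symm, hsb.symm⟩
      · simp only [Finset.mem_insert, Finset.mem_singleton, not_or]
        exact ⟨ab, ac, hra.symm, hsa.symm⟩
    refine ⟨_, hρ.filter K S, ?_, ?_⟩
    · intro h2
      have h3 := (Finset.mem_filter.1 h2).1
      simp only [Finset.mem_insert, Finset.mem_singleton] at h3
      rcases h3 with h3 | h3 | h3 | h3 | h3
      · exact a2 h3.symm
      · exact b2 h3.symm
      · exact c2 h3.symm
      · exact hr2 h3.symm
      · exact hs2 h3.symm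
    · have h1 : (({a, b, c, r, s} : Finset ℕ).filter fun r => r ∣ Nat.card ↥K * S.index).card ≤ 1 := by
        rw [Finset.card_le_one]
        intro x hx y hy
        rw [Finset.mem_filter] at hx hy
        exact hcoc _ hρ (by rw [hcard]; norm_num) x hx.1 y hy.1 hx.2 hy.2
      have h2 := Finset.card_filter_add_card_filter_not (s := ({a, b, c, r, s} : Finset ℕ))
        (fun r => r ∣ Nat.card ↥K * S.index)
      rw [hcard] at h2
      omega
  have hpsl : ∀ (F : Type) [Field F] [Fintype F], ¬ Nonempty (↥S ≃* Matrix.ProjectiveSpecialLinearGroup (Fin 2) F) := by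
    rintro F _ _ ⟨e⟩
    have := psl2 (hσ.congr e) hσ2
    omega
  have hbad : ∀ p : ℕ, p.Prime → p ≠ 2 → p ∣ Nat.card G → (¬ ∃ x : G, orderOf x = 2 * p) →
        ¬ p ∣ Nat.card ↥K ∧ ¬ p ∣ S.index := by
    rcases hvas with (⟨⟨e⟩⟩ | ⟨F, _, _, -, e⟩) | h1
    · exfalso
      have := alt7 e hσ hσ2
      omega
    · exact absurd e (hpsl F)
    · exact h1
  have hbadN : ∀ p : ℕ, p.Prime → p ∣ N q → ¬ p ∣ Nat.card ↥K ∧ ¬ p ∣ S.index := by
    intro p hp hpN
    have hp2 : p ≠ 2 := by rintro rfl; exact not_two_dvd_N q hpN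
    refine hbad p hp hp2 (hpN.trans (hdvd _ h.elt)) ?_
    rw [mul_comm]
    exact h.nadj hp hpN (not_two_dvd_N q)
  have hiz : Iz ↥S (N q) := by
    obtain ⟨x, hx⟩ := h.elt
    obtain ⟨y, hy⟩ := exists_socle K S (x := x)
      (by rw [hx]; exact Nat.coprime_of_dvd fun p hp h4 h5 => (hbadN p hp h4).1 h5)
      (by rw [hx]; exact Nat.coprime_of_dvd fun p hp h4 h5 => (hbadN p hp h4).2 h5)
    refine ⟨⟨y, by rw [hy, hx]⟩, ?_, not_two_dvd_N q, one_lt_N h.one_lt⟩
    intro y r hr hrn hd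
    obtain ⟨g, hg⟩ := Cfsg.Agent.H373.Recog.exists_lift K (y : G ⧸ K)
    rw [Subgroup.orderOf_coe] at hg
    rw [← hg] at hd ⊢
    exact h.iso g r hr hrn hd
  refine ⟨hiz, ?_⟩
  by_contra hex
  push Not at hex
  have hsS : s ∣ Nat.card ↥S := by
    obtain ⟨y, hy⟩ := hiz.elt
    exact hsN.trans (hy ▸ orderOf_dvd_natCard y)
  have hrS : ¬ r ∣ Nat.card ↥S := hex r hr hr2 hrN
  have hrK : r ∣ Nat.card ↥K * S.index := by
    by_contra h1
    exact hrS (dvd_S K S hr hrG h1)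
  -- the other primes
  have hoth : ∀ t : ℕ, t.Prime → t ∣ Nat.card G → ¬ t ∣ q ^ 4 + 1 → ¬ t ∣ Nat.card ↥K * S.index := by
    intro t ht htG ht8 htK
    by_cases htN : t ∣ N q
    · rcases (ht.dvd_mul).1 htK with h1 | h1
      · exact (hbadN t ht htN).1 h1
      · exact (hbadN t ht htN).2 h1
    · have hrt : r ≠ t := by rintro rfl; exact ht8 hrN
      have hst : s ≠ t := by rintro rfl; exact htN hsN
      have hρ : Cq G {r, s, t} := by
        refine ⟨?_, ?_⟩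
        · intro x hx
          simp only [Finset.mem_insert, Finset.mem_singleton] at hx
          rcases hx with rfl | rfl | rfl
          · exact ⟨hr, hrG⟩
          · exact ⟨hs, hsG⟩
          · exact ⟨ht, htG⟩
        · have rs := h.nadj8 hr hr2 hrN hsN8
          have rt := h.nadj8 hr hr2 hrN ht8
          have st := h.nadj hs hsN htN
          intro x hx y hy hxy
          simp only [Finset.mem_insert, Finset.mem_singleton] at hx hy
          rcases hx with rfl | rfl | rfl <;> rcases hy with rfl | rfl | rfl <;>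
            first
            | exact absurd rfl hxy
            | assumption
            | (rw [mul_comm]; assumption)
      have hcard : ({r, s, t} : Finset ℕ).card = 3 := by
        rw [Finset.card_insert_of_notMem, Finset.card_insert_of_notMem, Finset.card_singleton]
        · simpa using hst
        · simp only [Finset.mem_insert, Finset.mem_singleton, not_or]
          exact ⟨hrs, hrt⟩
      exact hrt (hcoc _ hρ hcard.ge r (by simp) t (by simp) hrK htK)
  have hoth' : ∀ t : ℕ, t.Prime → t ≠ 2 → t ∣ Nat.card ↥S → ¬ t ∣ q ^ 4 + 1 := fun t ht ht2 htS h8 =>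
    hex t ht ht2 h8 htS
  have hSG : Nat.card ↥S ∣ Nat.card G := by
    rw [card_split K S]
    exact dvd_mul_right _ _
  rcases (hr.dvd_mul).1 hrK with hrK' | hrI
  · -- the prime divides the order of the radical
    have hall : ∀ (p : ℕ) (P : Sylow p ↥S), p.Prime → p ≠ 2 → IsCyclic P := by
      intro t P ht ht2
      have htf : Fact t.Prime := ⟨ht⟩
      by_cases htS : t ∣ Nat.card ↥S
      · have ht8 := hoth' t ht ht2 htS
        have hrt : r ≠ t := by rintro rfl; exact ht8 hrN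
        have htK := hoth t ht (htS.trans hSG) ht8
        exact hcyc r s t hr hs ht ht2 hrs hrt hrK' hsS (h.nadj8 hr hr2 hrN hsN8)
          (fun e => htK (e.mul_right _)) (h.nadj8 hr hr2 hrN ht8) P
      · have h1 : Nat.card ↥(P : Subgroup ↥S) = 1 := by
          obtain ⟨k, hk⟩ := IsPGroup.iff_card.1 P.isPGroup'
          rcases Nat.eq_zero_or_pos k with rfl | hk0
          · simpa using hk
          · exfalso
            apply htS
            have h2 : t ∣ Nat.card ↥(P : Subgroup ↥S) := by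
              rw [hk]
              exact dvd_pow_self t hk0.ne'
            exact h2.trans (Subgroup.card_subgroup_dvd_card _)
        have h2 : Subsingleton ↥(P : Subgroup ↥S) := (Nat.card_eq_one_iff_unique.1 h1).1
        exact isCyclic_of_subsingleton
    rcases h342 hall with ⟨F, _, _, e⟩ | ⟨-, m, -, hm⟩ | ⟨-, hJ⟩
    · exact hpsl F e
    · have h3G : 3 ∣ Nat.card G := hdvd _ h.three
      have h3 := dvd_S K S Nat.prime_three h3G (hoth 3 Nat.prime_three h3G (not_three_dvd8 q))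
      rw [hm] at h3
      exact not_three_dvd_suz h3
    · rw [hJ] at hsS
      exact not_dvd_J1 hs hsN hsS
  · -- the prime divides the index of the socle
    have hrf : Fact r.Prime := ⟨hr⟩
    have hrX : r ∣ Nat.card (G ⧸ K) := by
      rw [← S.card_mul_index]
      exact hrI.mul_left _
    obtain ⟨a, ha⟩ := exists_prime_orderOf_dvd_card' r hrX
    have hcardA : Nat.card ↥(zpowers a) = r := by rw [Nat.card_zpowers, ha]
    refine hrich (zpowers a) (by rw [hcardA]; exact (hr.coprime_iff_not_dvd).2 hrS) ?_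
    have hp2 : IsPGroup 2 ↥(S ⊓ centralizer ((zpowers a : Subgroup (G ⧸ K)) : Set (G ⧸ K))) := by
      apply IsPGroup.of_card (n := (Nat.card ↥(S ⊓ centralizer ((zpowers a : Subgroup (G ⧸ K)) : Set (G ⧸ K)))).primeFactorsList.length)
      apply Nat.eq_prime_pow_of_unique_prime_dvd Nat.card_pos.ne'
      intro t ht htd
      by_contra ht2
      have htf : Fact t.Prime := ⟨ht⟩
      obtain ⟨y, hy⟩ := exists_prime_orderOf_dvd_card' t htd
      have hyS : (y : G ⧸ K) ∈ S := (Subgroup.mem_inf.1 y.2).1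
      have hyC := (Subgroup.mem_inf.1 y.2).2
      have htS : t ∣ Nat.card ↥S := htd.trans (Subgroup.card_dvd_of_le inf_le_left)
      have ht8 := hoth' t ht ht2 htS
      have hrt : r ≠ t := by rintro rfl; exact ht8 hrN
      have hcomm : Commute a (y : G ⧸ K) := (Subgroup.mem_centralizer_iff.1 hyC) a (mem_zpowers a)
      have hord : orderOf (a * (y : G ⧸ K)) = r * t := by
        rw [hcomm.orderOf_mul_eq_mul_orderOf_of_coprime, ha, Subgroup.orderOf_coe, hy]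
        rw [ha, Subgroup.orderOf_coe, hy]
        exact (Nat.coprime_primes hr ht).2 hrt
      obtain ⟨g, hg⟩ := Cfsg.Agent.H373.Recog.exists_lift K (a * (y : G ⧸ K))
      exact h.nadj8 hr hr2 hrN ht8 ⟨g, by rw [hg, hord]⟩
    have htf : Fact (Nat.Prime 2) := ⟨Nat.prime_two⟩
    exact hp2.isNilpotent

end Cfsg.Agent.H224.F4R
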