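import Mathlib
import Cfsg.Agent.H224.F4R.Core
import Cfsg.Agent.H371.Core.Fam
import Cfsg.Agent.H946.ExcNum

/-!
# The numbers `q ^ 4 - q ^ 2 + 1` and `q ^ 4 + 1` in `F4(q)` (helper224, S3479)

* `iso12`, `iso8` : the orders of the elements whose order is divisible by a prime of `q ^ 4 - q ^ 2 + 1` or by an odd
  prime of `q ^ 4 + 1`;
* `elt12`, `elt8` : elements of these orders.
-/

set_option autoImplicit false

namespace Cfsg.Agent.H224.F4R

open Cfsg Cfsg.Lie Cfsg.Agent.H366.X Subgroup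
open Cfsg.Agent.H371.Core Cfsg.Agent.H371.CycEval

universe u

/-- an element whose order is divisible by `s` lies in the centralizer of an element of order `s` -/
theorem order_dvd_of_cent {G : Type*} [Group G] [Finite G] {x : G} {s m : ℕ} (hd : s ∣ orderOf x)
    (h : ∀ y : G, orderOf y = s → Nat.card ↥(Subgroup.centralizer {y}) ∣ m) : orderOf x ∣ m := by
  obtain ⟨c, hc⟩ := hd
  have hpos := orderOf_pos x
  have hc0 : c ≠ 0 := by
    rintro rfl
    omega
  have hs : orderOf (x ^ c) = s := by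
    rw [orderOf_pow_of_dvd hc0 ⟨s, by rw [hc, mul_comm]⟩, hc, Nat.mul_div_cancel _ (Nat.pos_of_ne_zero hc0)]
  have hx : x ∈ Subgroup.centralizer {x ^ c} := by
    rw [Subgroup.mem_centralizer_singleton_iff]
    exact ((Commute.refl x).pow_right c).eq
  exact (Subgroup.orderOf_dvd_natCard _ hx).trans (h _ hs)

theorem ev12_eq (q : ℕ) : (ev 12 (q : ℕ)).natAbs = N q := by
  have h3 := Cfsg.Agent.H946.Num.cast_N12 q
  unfold Cfsg.Agent.H946.Num.N12 at h3
  rw [ev12, ← h3, Int.natAbs_natCast]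
  rfl

theorem ev8_eq (q : ℕ) : (ev 8 (q : ℕ)).natAbs = q ^ 4 + 1 := by
  rw [ev8, show ((q : ℤ) ^ 4 + 1) = ((q ^ 4 + 1 : ℕ) : ℤ) by push_cast; ring, Int.natAbs_natCast]

section
variable (F : Type u) [Field F] [Finite F]

theorem tor12 : Tor ↥(chevF4.group F) (Nat.card F) 12 (N (Nat.card F)) := by
  have h := tor_F4_12 F
  rwa [ev12_eq] at h

/-- the order of the centralizer is `(q ^ 4 + 1) / (2, q - 1)` -/
theorem tor8 : Tor ↥(chevF4.group F) (Nat.card F) 8 (Nat.card F ^ 4 + 1) := by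
  have h := tor_F4_8 F
  rwa [ev8_eq] at h

theorem iso12 {x : ↥(chevF4.group F)} {s : ℕ} (hs : s.Prime) (hsN : s ∣ N (Nat.card F)) (hd : s ∣ orderOf x) :
    orderOf x ∣ N (Nat.card F) :=
  order_dvd_of_cent hd fun y hy =>
    dvd_of_eq ((tor12 F).ct s hs (Cfsg.Agent.H946.Num.od_N12 hs hsN) y hy)

theorem iso8 {x : ↥(chevF4.group F)} {r : ℕ} (hr : r.Prime) (hr2 : r ≠ 2) (hrN : r ∣ Nat.card F ^ 4 + 1)
    (hd : r ∣ orderOf x) : orderOf x ∣ Nat.card F ^ 4 + 1 :=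
  order_dvd_of_cent hd fun y hy =>
    dvd_of_eq ((tor8 F).ct r hr (Cfsg.Agent.H946.Num.od_N8 hr hrN hr2) y hy)

theorem elt12 : ∃ x : ↥(chevF4.group F), orderOf x = N (Nat.card F) := (tor12 F).ex

theorem elt8 : ∃ x : ↥(chevF4.group F), orderOf x = Nat.card F ^ 4 + 1 := (tor8 F).ex

/-- orders of powers -/
theorem exists_of_dvd {G : Type*} [Group G] [Finite G] {m d : ℕ} (h : ∃ x : G, orderOf x = m) (hd : d ∣ m) :
    ∃ x : G, orderOf x = d := by
  obtain ⟨x, rfl⟩ := h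
  obtain ⟨c, hc⟩ := hd
  have hpos := orderOf_pos x
  have hc0 : c ≠ 0 := by
    rintro rfl
    omega
  refine ⟨x ^ c, ?_⟩
  rw [orderOf_pow_of_dvd hc0 ⟨d, by rw [hc, mul_comm]⟩, hc, Nat.mul_div_cancel _ (Nat.pos_of_ne_zero hc0)]

end

end Cfsg.Agent.H224.F4R
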