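import Mathlib
import Cfsg.Agent.H224.F4R.Iso
import Cfsg.Agent.H378.OmF4
import Cfsg.Agent.S1062

/-!
# `F4(q)`, `q` odd, satisfies `Sp` (helper224, S3479)
-/

set_option autoImplicit false

namespace Cfsg.Agent.H224.F4R

open Cfsg Cfsg.Lie Cfsg.Agent.H366.X Subgroup
open Cfsg.Agent.H378.ExcAdj Cfsg.Agent.H946.Num

universe u

/-! ### Primes -/

theorem exists_prime_ne_three {n : ℕ} (h1 : 3 < n) (h9 : ¬ 9 ∣ n) : ∃ r : ℕ, r.Prime ∧ r ≠ 3 ∧ r ∣ n := by
  by_contra hcon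
  push Not at hcon
  have h2 : n = 3 ^ n.primeFactorsList.length := Nat.eq_prime_pow_of_unique_prime_dvd (by omega) fun {d} hd hdn => by
    by_contra h3
    exact hcon d hd h3 hdn
  rw [h2] at h9 h1
  generalize n.primeFactorsList.length = k at h9 h1
  rcases k with _ | _ | k
  · norm_num at h1
  · norm_num at h1
  · exact h9 ⟨3 ^ k, by rw [pow_succ, pow_succ]; ring⟩

theorem exists3 {q : ℕ} (hq : 3 ≤ q) : ∃ r : ℕ, r.Prime ∧ r ≠ 3 ∧ r ∣ N3 q := by
  refine exists_prime_ne_three (by unfold N3; nlinarith) ?_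
  intro h
  have h1 : (q ^ 2 + q + 1) % 9 = 0 := Nat.mod_eq_zero_of_dvd h
  have h2 : ((q % 9) ^ 2 + q % 9 + 1) % 9 = 0 := by
    rw [← h1]
    conv_rhs => rw [Nat.add_mod, Nat.add_mod (q ^ 2) q, Nat.pow_mod]
    simp [Nat.add_mod, Nat.pow_mod]
  have h3 := Nat.mod_lt q (show 0 < 9 by norm_num)
  interval_cases h4 : q % 9 <;> omega

theorem N6_add (q : ℕ) : N6 q + q = q ^ 2 + 1 := by
  have := le_sq (q := q)
  unfold N6
  omega

theorem exists6 {q : ℕ} (hq : 3 ≤ q) : ∃ r : ℕ, r.Prime ∧ r ≠ 3 ∧ r ∣ N6 q := by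
  have h0 := N6_add q
  refine exists_prime_ne_three (by nlinarith) ?_
  rintro ⟨c, hc⟩
  have h1 : (q ^ 2 + 1) % 9 = q % 9 := by
    rw [← h0, hc, Nat.mul_add_mod]
  have h2 : ((q % 9) ^ 2 + 1) % 9 = q % 9 := by
    have e : ((q % 9) ^ 2 + 1) % 9 = (q ^ 2 + 1) % 9 := by
      rw [Nat.add_mod, ← Nat.pow_mod, ← Nat.add_mod]
    rw [e, h1]
  have h3 := Nat.mod_lt q (show 0 < 9 by norm_num)
  interval_cases h4 : q % 9 <;> omega

theorem exists4 {q : ℕ} (hq : 3 ≤ q) (ho : Odd q) : ∃ r : ℕ, r.Prime ∧ r ≠ 2 ∧ r ∣ q ^ 2 + 1 := by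
  have h1 : q ^ 2 % 4 = 1 := by
    have h2 := Nat.odd_iff.1 ho
    rw [Nat.pow_mod]
    have h3 : q % 4 = 1 ∨ q % 4 = 3 := by omega
    rcases h3 with h3 | h3 <;> rw [h3]
  have h2 : 9 ≤ q ^ 2 := by nlinarith
  obtain ⟨r, hr, hrd⟩ := Nat.exists_prime_and_dvd (show (q ^ 2 + 1) / 2 ≠ 1 by omega)
  refine ⟨r, hr, ?_, hrd.trans ⟨2, by omega⟩⟩
  rintro rfl
  omega

theorem od_N4 {q r : ℕ} (hr : r.Prime) (hr2 : r ≠ 2) (h : r ∣ q ^ 2 + 1) : od q r = 4 := by
  have := Fact.mk hr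
  have h0 : (q : ZMod r) ^ 2 + 1 = 0 := by
    have := (ZMod.natCast_eq_zero_iff (q ^ 2 + 1) r).2 h
    push_cast at this
    exact this
  have h4 : (q : ZMod r) ^ 4 = 1 := by linear_combination ((q : ZMod r) ^ 2 - 1) * h0
  refine orderOf_eq_of_pow_and_pow_div_prime (by norm_num) h4 ?_
  intro ℓ hℓ hd
  have h5 : ℓ = 2 := by
    have h7 : ℓ ∣ 2 ^ 2 := hd
    exact (Nat.prime_dvd_prime_iff_eq hℓ Nat.prime_two).1 (hℓ.dvd_of_dvd_pow h7)
  subst h5
  intro h9
  replace h9 : ((q : ℕ) : ZMod r) ^ 2 = 1 := h9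
  apply hr2
  refine small_ne hr Nat.prime_two ?_
  push_cast
  linear_combination h0 - h9

section
variable {q r : ℕ} (hq : 1 ≤ q)
include hq

theorem nd_of {k i : ℕ} (h : od q r = i) (hik : ¬ i ∣ k) : ¬ r ∣ q ^ k - 1 := fun h1 => hik (h ▸ od_dvd hq h1)

theorem dvd8 (h : r ∣ q ^ 4 + 1) : r ∣ q ^ 8 - 1 := by
  refine h.trans ⟨q ^ 4 - 1, ?_⟩
  have h1 : 1 ≤ q ^ 4 := Nat.one_le_pow _ _ hq
  have h2 : q ^ 8 = q ^ 4 * q ^ 4 := by ring
  obtain ⟨t, ht⟩ := Nat.exists_eq_add_of_le h1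
  rw [h2, ht, show 1 + t - 1 = t by omega]
  have : (1 + t) * (1 + t) = 1 + ((1 + t) + 1) * t := by ring
  omega

theorem dvd6 (h : r ∣ q ^ 3 + 1) : r ∣ q ^ 6 - 1 := by
  refine h.trans ⟨q ^ 3 - 1, ?_⟩
  have h1 : 1 ≤ q ^ 3 := Nat.one_le_pow _ _ hq
  have h2 : q ^ 6 = q ^ 3 * q ^ 3 := by ring
  obtain ⟨t, ht⟩ := Nat.exists_eq_add_of_le h1
  rw [h2, ht, show 1 + t - 1 = t by omega]
  have : (1 + t) * (1 + t) = 1 + ((1 + t) + 1) * t := by ring
  omega

theorem dvd2 (h : r ∣ q + 1) : r ∣ q ^ 2 - 1 := by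
  refine h.trans ⟨q - 1, ?_⟩
  have h2 : q ^ 2 = q * q := by ring
  obtain ⟨t, ht⟩ := Nat.exists_eq_add_of_le hq
  rw [h2, ht, show 1 + t - 1 = t by omega]
  have : (1 + t) * (1 + t) = 1 + ((1 + t) + 1) * t := by ring
  omega

theorem nd3 (hr : r.Prime) (hr2 : r ≠ 2) (h : od q r = 3) :
    ¬ r ∣ N q ∧ ¬ r ∣ q ^ 4 + 1 ∧ ¬ r ∣ q ^ 4 - 1 ∧ ¬ r ∣ (q ^ 3 + 1) * (q - 1) := by
  refine ⟨?_, fun h1 => nd_of hq h (by norm_num) (dvd8 hq h1), nd_of hq h (by norm_num), ?_⟩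
  · intro h1
    have h2 : od q r = 12 := od_N12 hr h1
    omega
  · intro h1
    rcases hr.dvd_mul.1 h1 with h2 | h2
    · have := Fact.mk hr
      have h3 : (q : ZMod r) ^ 3 = 1 := by
        have := pow_orderOf_eq_one ((q : ℕ) : ZMod r)
        have h4 : orderOf ((q : ℕ) : ZMod r) = 3 := h
        rw [h4] at this
        exact this
      have h4 : (q : ZMod r) ^ 3 + 1 = 0 := by
        have := (ZMod.natCast_eq_zero_iff (q ^ 3 + 1) r).2 h2
        push_cast at this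
        exact this
      apply hr2
      refine small_ne hr Nat.prime_two ?_
      push_cast
      linear_combination h4 - h3
    · have h3 : r ∣ q ^ 1 - 1 := by rw [pow_one]; exact h2
      exact nd_of hq h (by norm_num) h3

theorem nd4 (hr : r.Prime) (h : od q r = 4) :
    ¬ r ∣ N q ∧ ¬ r ∣ q ^ 4 + 1 ∧ ¬ r ∣ (q ^ 3 - 1) * (q + 1) ∧ ¬ r ∣ (q ^ 3 + 1) * (q - 1) := by
  refine ⟨?_, ?_, ?_, ?_⟩
  · intro h1
    have h2 : od q r = 12 := od_N12 hr h1
    omega
  · intro h1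
    by_cases hr2 : r = 2
    · subst hr2
      have h3 : od q 2 ≤ 1 := by
        unfold od
        have : ∀ x : ZMod 2, orderOf x ≤ 1 := by
          intro x
          fin_cases x
          · exact (orderOf_zero (ZMod 2)).le.trans (by norm_num)
          · exact (orderOf_one (G := ZMod 2)).le
        exact this _
      omega
    · have h2 : od q r = 8 := od_N8 hr h1 hr2
      omega
  · intro h1
    rcases hr.dvd_mul.1 h1 with h2 | h2
    · exact nd_of hq h (by norm_num) h2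
    · exact nd_of hq h (by norm_num) (dvd2 hq h2)
  · intro h1
    rcases hr.dvd_mul.1 h1 with h2 | h2
    · exact nd_of hq h (by norm_num) (dvd6 hq h2)
    · have h3 : r ∣ q ^ 1 - 1 := by rw [pow_one]; exact h2
      exact nd_of hq h (by norm_num) h3

theorem nd6 (hr : r.Prime) (h : od q r = 6) :
    ¬ r ∣ N q ∧ ¬ r ∣ q ^ 4 + 1 ∧ ¬ r ∣ q ^ 4 - 1 ∧ ¬ r ∣ (q ^ 3 - 1) * (q + 1) := by
  refine ⟨?_, fun h1 => nd_of hq h (by norm_num) (dvd8 hq h1), nd_of hq h (by norm_num), ?_⟩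
  · intro h1
    have h2 : od q r = 12 := od_N12 hr h1
    omega
  · intro h1
    rcases hr.dvd_mul.1 h1 with h2 | h2
    · exact nd_of hq h (by norm_num) h2
    · exact nd_of hq h (by norm_num) (dvd2 hq h2)

end

/-- a prime modulo which `q` has positive order is not the characteristic -/
theorem not_dvd_q {q r i : ℕ} (hr : r.Prime) (hi : 0 < i) (h : od q r = i) : ¬ r ∣ q := by
  have := Fact.mk hr
  intro h1
  have h2 : ((q : ℕ) : ZMod r) = 0 := (ZMod.natCast_eq_zero_iff q r).2 h1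
  rw [od, h2, orderOf_zero] at h
  omega

section
variable (F : Type u) [Field F] [Fintype F]

/-- orders coprime to the characteristic -/
theorem om_prime {p : ℕ} [Fact p.Prime] [CharP F p] {x : ↥(chevF4.group F)} {a b : ℕ} (ha : a.Prime) (hb : b.Prime)
    (hap : ¬ a ∣ Fintype.card F) (hbp : ¬ b ∣ Fintype.card F) (hx : orderOf x = a * b) :
    ∃ m, a ∣ m ∧ b ∣ m ∧ (m ∣ N (Fintype.card F) ∨ m ∣ Fintype.card F ^ 4 + 1 ∨ m ∣ Fintype.card F ^ 4 - 1 ∨
      m ∣ (Fintype.card F ^ 3 - 1) * (Fintype.card F + 1) ∨ m ∣ (Fintype.card F ^ 3 + 1) * (Fintype.card F - 1)) := by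
  obtain ⟨k, m, h⟩ := Cfsg.Agent.H378.OmF4.om_F4 (K := F) (p := p) (q := Fintype.card F) Nat.card_eq_fintype_card x
  obtain ⟨n, -, hn⟩ := FiniteField.card F p
  have hpp : p.Prime := Fact.out
  have key : ∀ c : ℕ, c.Prime → ¬ c ∣ Fintype.card F → c ∣ orderOf x → c ∣ m := by
    intro c hc hcp hcd
    rw [h.eq] at hcd
    rcases hc.dvd_mul.1 hcd with h1 | h1
    · exfalso
      apply hcp
      rw [hn]
      have h2 := (Nat.prime_dvd_prime_iff_eq hc hpp).1 (hc.dvd_of_dvd_pow h1)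
      rw [h2]
      exact dvd_pow_self p n.ne_zero
    · exact h1
  exact ⟨m, key a ha hap (hx ▸ dvd_mul_right a b), key b hb hbp (hx ▸ dvd_mul_left b a), h.s0⟩

/-- every prime of the order is an element order -/
theorem exists_order {G : Type*} [Group G] [Finite G] {r : ℕ} (hr : r.Prime) (h : r ∣ Nat.card G) :
    ∃ x : G, orderOf x = r := by
  have := Fact.mk hr
  exact exists_prime_orderOf_dvd_card' r h

theorem two_dvd_pow_sub {q k : ℕ} (h : Odd q) : 2 ∣ q ^ k - 1 := by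
  have h1 : Odd (q ^ k) := h.pow
  obtain ⟨c, hc⟩ := h1
  omega

theorem sub_dvd_sub {q i k : ℕ} (h : i ∣ k) : q ^ i - 1 ∣ q ^ k - 1 := by
  obtain ⟨c, rfl⟩ := h
  rw [pow_mul]
  exact Nat.sub_one_dvd_pow_sub_one _ _

/-- **The facts for `F4(q)`, `q` odd.** -/
theorem spec_odd (hq : Odd (Fintype.card F)) : Sp ↥(chevF4.group F) (Fintype.card F) := by
  obtain ⟨p, hc⟩ := CharP.exists F
  have hp : Fact p.Prime := ⟨CharP.char_is_prime F p⟩
  have hcard := Cfsg.Agent.S1062.result (F := F) rfl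
  have hNc : Nat.card F = Fintype.card F := Nat.card_eq_fintype_card
  have h12 := tor12 F
  have h8 := tor8 F
  have e12 := elt12 F
  have e8 := elt8 F
  have i12 := @iso12 F _ _
  have i8 := @iso8 F _ _
  rw [hNc] at h12 h8 e12 e8 i12 i8
  have hq1 : 1 < Fintype.card F := Fintype.one_lt_card
  have hq3 : 3 ≤ Fintype.card F := by
    obtain ⟨c, hc⟩ := hq
    omega
  generalize hqq : Fintype.card F = q at *
  have h1q : 1 ≤ q := by omega
  obtain ⟨a, pa, a3, had⟩ := exists3 hq3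
  obtain ⟨b, pb, b2, hbd⟩ := exists4 hq3 hq
  obtain ⟨c, pc, c3, hcd⟩ := exists6 hq3
  have oa : od q a = 3 := od_N3 pa had a3
  have ob : od q b = 4 := od_N4 pb b2 hbd
  have oc : od q c = 6 := od_N6 pc hcd c3
  have hsmall : ∀ {r i : ℕ}, od q r = i → 2 ≤ i → r ≠ 2 := by
    rintro r i h hi rfl
    have h3 : od q 2 ≤ 1 := by
      unfold od
      have : ∀ x : ZMod 2, orderOf x ≤ 1 := by
        intro x
        fin_cases x
        · exact (orderOf_zero (ZMod 2)).le.trans (by norm_num)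
        · exact (orderOf_one (G := ZMod 2)).le
      exact this _
    omega
  have a2 := hsmall oa (by norm_num)
  have c2 := hsmall oc (by norm_num)
  have ab : a ≠ b := by rintro rfl; omega
  have ac : a ≠ c := by rintro rfl; omega
  have bc : b ≠ c := by rintro rfl; omega
  have na := nd3 h1q pa a2 oa
  have nb := nd4 h1q pb ob
  have nc := nd6 h1q pc oc
  have qa := not_dvd_q pa (by norm_num) oa
  have qb := not_dvd_q pb (by norm_num) ob
  have qc := not_dvd_q pc (by norm_num) oc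
  have hcop1 : ∀ k i, i ∣ k → q ^ i - 1 ∣ q ^ k - 1 := fun k i h => sub_dvd_sub h
  have hpow : ∀ {r i : ℕ}, r.Prime → od q r = i → r ∣ q ^ i - 1 := by
    intro r i hr h
    have := Fact.mk hr
    have h1 : ((q : ℕ) : ZMod r) ^ i = 1 := by rw [← h]; exact pow_orderOf_eq_one _
    have h2 : ((q ^ i - 1 : ℕ) : ZMod r) = 0 := by
      rw [Nat.cast_sub (Nat.one_le_pow _ _ h1q)]
      push_cast
      rw [h1, sub_self]
    exact (ZMod.natCast_eq_zero_iff _ r).1 h2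
  have d12 : ∀ {r : ℕ}, r ∣ q ^ 12 - 1 → r ∣ Nat.card ↥(chevF4.group F) := fun h => by
    rw [hcard]; exact h.mul_left _
  have ea : ∃ x : ↥(chevF4.group F), orderOf x = a :=
    exists_order pa (d12 ((hpow pa oa).trans (sub_dvd_sub (by norm_num))))
  have eb : ∃ x : ↥(chevF4.group F), orderOf x = b :=
    exists_order pb (d12 ((hpow pb ob).trans (sub_dvd_sub (by norm_num))))
  have ec : ∃ x : ↥(chevF4.group F), orderOf x = c :=
    exists_order pc (d12 ((hpow pc oc).trans (sub_dvd_sub (by norm_num))))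
  refine ⟨hq, hq1, exists_order Nat.prime_two (d12 (two_dvd_pow_sub hq)), ?_, e12, ?_, ?_, ?_, ?_⟩
  · refine exists_order Nat.prime_three ?_
    by_cases h3 : 3 ∣ q
    · rw [hcard, show q ^ 24 = q * q ^ 23 by ring]
      simp only [mul_assoc]
      exact h3.mul_right _
    · refine d12 (Dvd.dvd.trans ?_ (hcop1 12 2 (by norm_num)))
      have h4 : q ^ 2 % 3 = 1 := by
        rw [Nat.pow_mod]
        have h5 : q % 3 = 1 ∨ q % 3 = 2 := by omega
        rcases h5 with h5 | h5 <;> rw [h5]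
      omega
  · intro x s hs hsN hd
    exact i12 hs hsN hd
  · intro x r hr hr2 hrN hd
    exact i8 hr hr2 hrN hd
  · intro r hr hrN
    exact exists_of_dvd e8 hrN
  · refine ⟨a, b, c, ⟨pa, pb, pc⟩, ⟨a2, b2, c2⟩, ⟨ab, ac, bc⟩, ⟨ea, eb, ec⟩, ⟨na.2.1, nb.2.1, nc.2.1⟩,
      ⟨na.1, nb.1, nc.1⟩, ?_, ?_, ?_⟩
    · rintro ⟨x, hx⟩
      obtain ⟨m, ham, hbm, h⟩ := om_prime F (p := p) pa pb (hqq ▸ qa) (hqq ▸ qb) hx
      rw [hqq] at h
      rcases h with h | h | h | h | h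
      · exact na.1 (ham.trans h)
      · exact na.2.1 (ham.trans h)
      · exact na.2.2.1 (ham.trans h)
      · exact nb.2.2.1 (hbm.trans h)
      · exact na.2.2.2 (ham.trans h)
    · rintro ⟨x, hx⟩
      obtain ⟨m, ham, hbm, h⟩ := om_prime F (p := p) pa pc (hqq ▸ qa) (hqq ▸ qc) hx
      rw [hqq] at h
      rcases h with h | h | h | h | h
      · exact na.1 (ham.trans h)
      · exact na.2.1 (ham.trans h)
      · exact na.2.2.1 (ham.trans h)
      · exact nc.2.2.2 (hbm.trans h)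
      · exact na.2.2.2 (ham.trans h)
    · rintro ⟨x, hx⟩
      obtain ⟨m, ham, hbm, h⟩ := om_prime F (p := p) pb pc (hqq ▸ qb) (hqq ▸ qc) hx
      rw [hqq] at h
      rcases h with h | h | h | h | h
      · exact nb.1 (ham.trans h)
      · exact nb.2.1 (ham.trans h)
      · exact nc.2.2.1 (hbm.trans h)
      · exact nb.2.2.1 (ham.trans h)
      · exact nb.2.2.2 (ham.trans h)

end

end Cfsg.Agent.H224.F4R
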