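import Mathlib
import Cfsg.Agent.H224.F4R.Frame
import Cfsg.Agent.H224.F4R.Spec
import Cfsg.Agent.H351.F4Out
import Cfsg.Agent.H72.F4I.Ident
import Cfsg.Agent.H425.KFix

/-!
# Recognition of `F4(q)` by its element orders: assembly (helper224, S3479)

* `CovX` : covers in cross characteristic; `cov` : own characteristic from a fixed vector of the elements of order
  `q ^ 4 - q ^ 2 + 1`;
* `main` : the recognition theorem from the frames.
-/

set_option autoImplicit false

namespace Cfsg.Agent.H224.F4R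

open Cfsg Cfsg.Lie Cfsg.Agent.H366.X Subgroup Finset

universe u v

/-- covers in cross characteristic -/
def CovX (F : Type v) [Field F] [Fintype F] : Prop :=
  ∀ r : ℕ, r.Prime → ¬ r ∣ Fintype.card F → ∀ (V : Type u) [AddCommGroup V] [Finite V] [Nontrivial V],
    (∀ v : V, r • v = 0) → ∀ φ : ↥(chevF4.group F) →* AddMonoid.End V, ∃ (x : ↥(chevF4.group F)) (v : V),
      ∑ i ∈ range (orderOf x), φ (x ^ i) v ≠ 0 ∧ ¬ ∃ y : ↥(chevF4.group F), orderOf y = r * orderOf x

/-- the automorphism of the module given by a group element -/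
noncomputable def lin {p : ℕ} [Fact p.Prime] {H : Type*} [Group H] {V : Type*} [AddCommGroup V] [Module (ZMod p) V]
    (φ : H →* AddMonoid.End V) : H →* (V ≃ₗ[ZMod p] V) where
  toFun h :=
    { toFun := φ h
      invFun := φ h⁻¹
      left_inv := fun v => by
        show (φ h⁻¹ * φ h) v = v
        rw [← map_mul, inv_mul_cancel, map_one]; rfl
      right_inv := fun v => by
        show (φ h * φ h⁻¹) v = v
        rw [← map_mul, mul_inv_cancel, map_one]; rfl
      map_add' := fun a b => map_add (φ h) a b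
      map_smul' := fun c v => ZMod.map_smul (φ h) c v }
  map_one' := by
    ext v
    show φ 1 v = v
    rw [map_one]; rfl
  map_mul' a b := by
    ext v
    show φ (a * b) v = φ a (φ b v)
    rw [map_mul]; rfl

/-- **Covers.** -/
theorem cov {F : Type v} [Field F] [Fintype F] {p : ℕ} [Fact p.Prime] [CharP F p]
    (hU : ∀ x : ↥(chevF4.group F), (orderOf x).Coprime p → Cfsg.Agent.H425.KFix.FixAll.{u} p x)
    (hX : CovX.{u} F) : Cfsg.Agent.H373.Recog.Cov.{v, u} ↥(chevF4.group F) := by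
  intro r hr V _ _ _ hV φ
  obtain ⟨n, -, hn⟩ := FiniteField.card F p
  have hp : p.Prime := Fact.out
  by_cases hrF : r ∣ Fintype.card F
  · obtain rfl : r = p := by
      rw [hn] at hrF
      exact (Nat.prime_dvd_prime_iff_eq hr hp).1 (hr.dvd_of_dvd_pow hrF)
    have e12 := elt12 F
    have i12 := @iso12 F _ _
    rw [Nat.card_eq_fintype_card] at e12 i12
    obtain ⟨x, hx⟩ := e12
    have hrN : ¬ r ∣ N (Fintype.card F) := by
      intro h1
      have h2 := N_add (Fintype.card F)
      have h3 : r ∣ Fintype.card F ^ 4 + 1 := by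
        rw [← h2]
        exact dvd_add h1 (dvd_pow hrF (by norm_num))
      exact cop hr h1 h3
    have hcop : (orderOf x).Coprime r := by
      rw [hx]
      exact ((hr.coprime_iff_not_dvd).2 hrN).symm
    let _ : Module (ZMod r) V := AddCommGroup.zmodModule hV
    obtain ⟨w, hw0, hw⟩ := hU x hcop V (lin φ)
    refine ⟨x, w, Cfsg.Agent.H373.Recog.sum_ne_zero_of_fixed hr hV φ hw0 hw (by rw [hx]; exact hrN), ?_⟩
    rintro ⟨y, hy⟩
    obtain ⟨s, hs, hsN⟩ := Nat.exists_prime_and_dvd (one_lt_N (q := Fintype.card F) Fintype.one_lt_card).ne'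
    have h1 := i12 (x := y) hs hsN (by rw [hy, hx]; exact hsN.mul_left _)
    rw [hy] at h1
    exact hrN ((dvd_mul_right r _).trans h1)
  · exact hX r hr hrF V hV φ

/-- the situation of helper72's identification theorem -/
theorem fs {F : Type v} [Field F] [Fintype F] {G : Type u} [Group G] [Finite G]
    (hω : Set.range (orderOf : G → ℕ) = Set.range (orderOf : ↥(chevF4.group F) → ℕ)) (K : Subgroup G) [K.Normal]
    (S : Subgroup (G ⧸ K)) (hiz : Iz ↥S (N (Fintype.card F)))
    (h8 : ∃ r : ℕ, r.Prime ∧ r ≠ 2 ∧ r ∣ Fintype.card F ^ 4 + 1 ∧ r ∣ Nat.card ↥S) :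
    Cfsg.Agent.H72.F4I.FS (Fintype.card F) ↥S := by
  have hNc : Nat.card F = Fintype.card F := Nat.card_eq_fintype_card
  have i8 := @iso8 F _ _
  rw [hNc] at i8
  have hlift : ∀ x : ↥S, ∃ y : ↥(chevF4.group F), orderOf y = orderOf x := by
    intro x
    obtain ⟨g, hg⟩ := Cfsg.Agent.H373.Recog.exists_lift K (x : G ⧸ K)
    rw [Subgroup.orderOf_coe] at hg
    rw [← hg]
    have h1 : orderOf g ∈ Set.range (orderOf : ↥(chevF4.group F) → ℕ) := hω ▸ ⟨g, rfl⟩
    exact h1
  refine ⟨FiniteField.isPrimePow_card F, hiz.elt, hiz.iso, h8, ?_, ?_⟩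
  · intro x r hr hr2 hrN hd
    obtain ⟨y, hy⟩ := hlift x
    rw [← hy] at hd ⊢
    exact i8 hr hr2 hrN hd
  · intro t ht hd
    obtain ⟨x, hx⟩ := exists_order ht hd
    obtain ⟨y, hy⟩ := hlift x
    have h1 : t ∣ Nat.card ↥(chevF4.group F) := by
      rw [← hx, ← hy]
      exact orderOf_dvd_natCard y
    rw [Cfsg.Agent.S1062.result (F := F) rfl] at h1
    rcases ht.dvd_mul.1 h1 with h1 | h1
    · rcases ht.dvd_mul.1 h1 with h1 | h1
      · rcases ht.dvd_mul.1 h1 with h1 | h1
        · rcases ht.dvd_mul.1 h1 with h1 | h1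
          · exact Or.inl (ht.dvd_of_dvd_pow h1)
          · exact Or.inr (Or.inl (h1.trans (sub_dvd_sub (by norm_num))))
        · exact Or.inr (Or.inr (h1.trans (sub_dvd_sub (by norm_num))))
      · exact Or.inr (Or.inl h1)
    · exact Or.inr (Or.inr h1)

/-- `q ^ 4 + 1` is isolated for `q` even -/
theorem iz8_even {F : Type v} [Field F] [Fintype F] (hq : Even (Fintype.card F)) :
    Iz ↥(chevF4.group F) (Fintype.card F ^ 4 + 1) := by
  have hNc : Nat.card F = Fintype.card F := Nat.card_eq_fintype_card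
  have i8 := @iso8 F _ _
  have e8 := elt8 F
  rw [hNc] at i8 e8
  have h2 : ¬ 2 ∣ Fintype.card F ^ 4 + 1 := by
    have h3 : Even (Fintype.card F ^ 4) := hq.pow_of_ne_zero (by norm_num)
    rw [← even_iff_two_dvd, Nat.not_even_iff_odd]
    exact h3.add_one
  refine ⟨e8, ?_, h2, ?_⟩
  · intro x r hr hrN hd
    exact i8 hr (by rintro rfl; exact h2 hrN) hrN hd
  · have : 0 < Fintype.card F ^ 4 := pow_pos Fintype.card_pos _
    omega

theorem iz12 {F : Type v} [Field F] [Fintype F] : Iz ↥(chevF4.group F) (N (Fintype.card F)) := by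
  have hNc : Nat.card F = Fintype.card F := Nat.card_eq_fintype_card
  have i12 := @iso12 F _ _
  have e12 := elt12 F
  rw [hNc] at i12 e12
  exact ⟨e12, fun x s hs hsN hd => i12 hs hsN hd, not_two_dvd_N _, one_lt_N Fintype.one_lt_card⟩

/-- **The recognition theorem.** -/
theorem main {F : Type v} [Field F] [Fintype F] (p : ℕ) [CharP F p] (hp : p = 2 ∨ p = 3 ∨ p = 7 ∨ p = 11)
    (hcl : Cl.{u}) (hF : Cfsg.Agent.H366.X.Frm.{u}) (hV : VasP.{u}) (h342 : OddCycP.{u}) (hR : RichP.{u})
    (hU : ∀ x : ↥(chevF4.group F), (orderOf x).Coprime p → Cfsg.Agent.H425.KFix.FixAll.{u} p x)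
    (hX : CovX.{u} F) : Rcg.{u, v} ↥(chevF4.group F) := by
  have hpf : Fact p.Prime := ⟨CharP.char_is_prime F p⟩
  have hcov := cov (p := p) hU hX
  have haut := Cfsg.Agent.H351.F4Out.autOk_F4 (F := F) p hp
  rcases Nat.even_or_odd (Fintype.card F) with hq | hq
  · -- `q` even
    intro G _ _ hω
    have h12 : Iz ↥(chevF4.group F) (N (Fintype.card F)) := iz12
    have h8 : Iz ↥(chevF4.group F) (Fintype.card F ^ 4 + 1) := iz8_even hq
    have h0' : ∃ x : G, orderOf x = 2 := by
      have h2 : 2 ∣ Nat.card ↥(chevF4.group F) := by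
        rw [Cfsg.Agent.S1062.result (F := F) rfl, show Fintype.card F ^ 24 = Fintype.card F * Fintype.card F ^ 23 by ring]
        simp only [mul_assoc]
        exact hq.two_dvd.mul_right _
      have h3 : 2 ∈ Set.range (orderOf : ↥(chevF4.group F) → ℕ) := exists_order Nat.prime_two h2
      rw [← hω] at h3
      exact h3
    obtain ⟨K, hKn, hK, S, hSn, hS, hSna, hSc, hSI⟩ := hF G _ _ h0' (h12.of_spec hω) (h8.of_spec hω)
      (Nat.coprime_of_dvd fun r hr h1 h2 => cop hr h1 h2)
    have h8S := hSI _ (h8.of_spec hω)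
    have hfs := fs hω K S (hSI _ (h12.of_spec hω)) (by
      obtain ⟨r, hr, hrN⟩ := Nat.exists_prime_and_dvd h8.one_lt.ne'
      refine ⟨r, hr, by rintro rfl; exact h8.not_two_dvd hrN, hrN, ?_⟩
      obtain ⟨y, hy⟩ := h8S.elt
      exact hrN.trans (hy ▸ orderOf_dvd_natCard y))
    obtain ⟨e⟩ := Cfsg.Agent.H72.F4I.ident_F4 hSna (hcl ↥S) hfs (K := F) rfl
    exact Cfsg.Agent.H373.Recog.recognize hω K hK S hSc e hcov haut
  · -- `q` odd
    intro G _ _ hω
    obtain ⟨K, hKn, hK, S, hSn, hS, hSna, hSc, hiz, h8⟩ := frame_odd hV h342 hR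
      ((spec_odd F hq).of_spec hω)
    obtain ⟨e⟩ := Cfsg.Agent.H72.F4I.ident_F4 hSna (hcl ↥S) (fs hω K S hiz h8) (K := F) rfl
    exact Cfsg.Agent.H373.Recog.recognize hω K hK S hSc e hcov haut

end Cfsg.Agent.H224.F4R
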