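import Cfsg.Agent.H224.F4R.CovTor
import Cfsg.Agent.H224.F4R.CovK
import Cfsg.Agent.H224.F4R.Iso
import Cfsg.Agent.H378.OmF4
import Cfsg.Agent.S1054

/-!
# Covers of `F₄(q)` in cross characteristic (helper224, S3479)

`n = (q ^ 3 - 1) (q + 1)`; `A`, `X` : the products of the root groups of degree 3 and 2 (third coordinate), `c` of order `n` in
the parabolic subgroup of type `A₁ × Ã₂`.
* `exists_dt` : the data; `covX` : for every prime `r ∤ q` and every nonzero `F_r`-module there are `x` and `v` with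
  `∑_{i < |x|} x ^ i v ≠ 0`, and no element of order `r |x|`.
-/

set_option autoImplicit false
set_option linter.unusedSectionVars false

namespace Cfsg.Agent.H224.F4R.CovF

open CoxeterSystem Subgroup Cfsg Cfsg.Lie Cfsg.Lie.ChevalleyDatum
open Cfsg.Agent.ChevalleyStructure Cfsg.Agent.ChevalleyStructure.Elts Cfsg.Agent.ChevalleyStructure.CoxeterGeom
  Cfsg.Agent.ChevalleyStructure.CoxeterGeomTypes Cfsg.Agent.ChevalleyStructure.NPerm
open Cfsg.Agent.Tits.Roots Cfsg.Agent.Tits.Core Cfsg.Agent.Nodes.Reps Cfsg.Agent.Nodes.BNOf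
  Cfsg.Agent.Nodes.RGDChev Cfsg.Agent.Nodes.Bruhat
open Cfsg.Agent.KFacts.RgdField Cfsg.Agent.KFacts.RgdChevCoord Cfsg.Agent.BpExc.TorCent Cfsg.Agent.BpExc.TorChev
open Cfsg.Agent.BpExc.Tow Cfsg.Agent.BpExc.TowChev Cfsg.Agent.BpExc.FamExt Cfsg.Agent.BpExc.FamUntw
  Cfsg.Agent.BpExc.FamInst Cfsg.Agent.BpExc.LangFr Cfsg.Agent.BpExc.FamField Cfsg.Agent.BpExc.Fr
open Cfsg.Agent.GpExc.Field (glMap emb coe_emb glMap_xG emb_injective coe_glMap)
open Cfsg.Agent.H129.TorusChar (cX cX_vec cX_pow)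
open Cfsg.Agent.H628.Exc.Func (SJ SJ_root exists_fixed)
open Cfsg.Agent.H378.RankOne Cfsg.Agent.H135.TD Cfsg.Agent.H224.F4R.CovTor Cfsg.Agent.H224.F4R.CovK
open Cfsg.Agent.BpExc.RowsUntw (f4T)

universe u v

/-- the Coxeter system -/
noncomputable abbrev cs4 : CoxeterSystem CoxeterMatrix.F₄ CoxeterMatrix.F₄.Group := CoxeterMatrix.F₄.toCoxeterSystem

/-- the roots of degree `d` -/
def Sd (d : ℤ) : Set (Fin 4 → ℤ) := {x | IsRoot cs4 f4T.isCartan x ∧ x 2 = d}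

theorem nroots : chevF4.nroots = 48 := by decide +kernel

theorem deg_tab : ∀ j < 48, vec chevF4 4 j 2 ≤ 3 := by
  unfold vec
  decide +kernel

theorem deg_le {x : Fin 4 → ℤ} (hx : IsRoot cs4 f4T.isCartan x) : x 2 ≤ 3 := by
  obtain ⟨j, hj, rfl⟩ := (isRoot_iff f4T cs4 _).1 hx
  exact deg_tab j (by rw [← nroots]; exact hj)

theorem Sd_root {d : ℤ} : ∀ x ∈ Sd d, IsRoot cs4 f4T.isCartan x := fun _ h => h.1

section K

variable {k : Type u} [Field k]

theorem comm_deg {d d' : ℤ} (hd : 0 < d) (hd' : 0 < d') (h : 3 < d + d') : ∀ x ∈ Sd d, ∀ y ∈ Sd d',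
    ∀ a ∈ XX chevF4 4 k x, ∀ b ∈ XX chevF4 4 k y, a * b = b * a := by
  rintro x ⟨hx, hx2⟩ y ⟨hy, hy2⟩ a ha b hb
  refine comm_none f4T cs4 hx hy ?_ ?_ ha hb
  · intro e
    have h1 := congrFun e 2
    rw [Pi.neg_apply, hx2, hy2] at h1
    omega
  · intro z i j hz hi hj e
    have h1 := congrFun e 2
    rw [Pi.add_apply, Pi.smul_apply, Pi.smul_apply, smul_eq_mul, smul_eq_mul, hx2, hy2] at h1
    have h2 := deg_le hz
    nlinarith

theorem levi_conj {d : ℤ} (hd : 2 ≤ d) {z a : ↥(chevF4.group k)}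
    (hz : z ∈ RGD.Sup (XX chevF4 4 k) (SJ {i | i ≠ 2})) (ha : a ∈ RGD.Sup (XX chevF4 4 k) (Sd d)) :
    z * a * z⁻¹ ∈ RGD.Sup (XX chevF4 4 k) (Sd d) := by
  refine Sup_conj f4T cs4 Sd_root (fun v hv => SJ_root f4T cs4 v hv) ?_ hz ha
  rintro v hv y ⟨hy, hy2⟩
  have hv2 : v 2 = 0 := by
    obtain ⟨j, hj, rfl | rfl⟩ := hv
    · exact sr_ne (show (2 : Fin 4) ≠ j from fun h => hj h.symm)
    · rw [Pi.neg_apply, sr_ne (show (2 : Fin 4) ≠ j from fun h => hj h.symm), neg_zero]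
  refine ⟨?_, ?_, ?_⟩
  · intro e
    have h1 := congrFun e 2
    rw [Pi.neg_apply, hv2, hy2] at h1
    omega
  · intro e
    have h1 := congrFun e 2
    rw [hv2, hy2] at h1
    omega
  · intro z i j hz hi hj e
    refine ⟨hz, ?_⟩
    have h1 := congrFun e 2
    rw [Pi.add_apply, Pi.smul_apply, Pi.smul_apply, smul_eq_mul, smul_eq_mul, hv2, hy2, mul_zero, zero_add] at h1
    have h2 := deg_le hz
    have h3 : j = 1 := by
      by_contra hj1
      have h4 : 2 ≤ j := by omega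
      nlinarith
    rw [h1, h3, one_mul]

/-- the commutator -/
theorem root_comm {b u : ↥(chevF4.group k)} (hb : b ∈ XX chevF4 4 k (vec chevF4 4 32))
    (hu : u ∈ XX chevF4 4 k (vec chevF4 4 41)) : b * u * b⁻¹ * u⁻¹ ∈ RGD.Sup (XX chevF4 4 k) (Sd 3) := by
  have h32 : vec chevF4 4 32 2 = 2 := by unfold vec; decide +kernel
  have h41 : vec chevF4 4 41 2 = 1 := by unfold vec; decide +kernel
  refine comm_int f4T cs4 (isRoot_vec f4T cs4 (by decide +kernel)) (isRoot_vec f4T cs4 (by decide +kernel)) ?_ ?_ ?_ hb hu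
  · intro e
    have h1 := congrFun e 2
    rw [h32, h41] at h1
    omega
  · intro e
    have h1 := congrFun e 2
    rw [Pi.neg_apply, h32, h41] at h1
    omega
  · intro z i j hz hi hj e
    refine ⟨hz, ?_⟩
    have h1 := congrFun e 2
    rw [Pi.add_apply, Pi.smul_apply, Pi.smul_apply, smul_eq_mul, smul_eq_mul, h32, h41] at h1
    have h2 := deg_le hz
    omega

theorem root_comm_ne : xc f4T (vec chevF4 4 32) (1 : k) * xc f4T (vec chevF4 4 41) (1 : k) *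
    (xc f4T (vec chevF4 4 32) (1 : k))⁻¹ * (xc f4T (vec chevF4 4 41) (1 : k))⁻¹ ≠ 1 := by
  intro h
  have h1 := congrArg (fun g : ↥(chevF4.group k) => (g : GL chevF4.Idx k)) h
  simp only [Subgroup.coe_mul, Subgroup.coe_inv, coe_xc f4T (show 32 < chevF4.nroots by decide +kernel),
    coe_xc f4T (show 41 < chevF4.nroots by decide +kernel), Subgroup.coe_one] at h1
  have e1 : ∀ (j : ℕ) (v : k), (xG f4T.inList j (-v))⁻¹ = xG f4T.inList j v := fun j v => by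
    rw [xG_inv, _root_.neg_neg]
  have h2 := comm_xG (K := k) f4T (r := 41) (s := 32) (by decide +kernel) (by decide +kernel) (by norm_num)
    (by decide +kernel) (-1) (-1)
  have e2 : chevF4.commTerms 41 32 = [(46, -1, 1, 1)] := by decide +kernel
  have e3 : chevF4.commWord k 41 32 (-1) (-1) = [(46, 1)] := by
    unfold ChevalleyDatum.commWord
    rw [e2]
    simp
  rw [e1, e1, e3, commutatorElement_def, h1, wordG_cons, wordG_nil, mul_one] at h2
  have h3 : xG f4T.inList 46 (1 : k) = xG f4T.inList 46 0 := by rw [← h2, xG_zero]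
  exact one_ne_zero (xG_injective f4T.inList (show 46 < chevF4.nroots by decide +kernel) h3)

end K

/-! ### the data in the finite group -/

/-- the data for the norm argument -/
structure Dt (L : Type*) [Group L] (p q : ℕ) (A X : Subgroup L) (c b u : L) : Prop where
  hA : ∀ a ∈ A, ∀ b ∈ A, a * b = b * a
  hX : ∀ a ∈ X, ∀ b ∈ X, a * b = b * a
  hAX : ∀ a ∈ A, ∀ x ∈ X, a * x = x * a
  hcA : ∀ a ∈ A, c * a * c⁻¹ ∈ A
  hcX : ∀ a ∈ X, c * a * c⁻¹ ∈ X
  hfree : ∀ i, 0 < i → i < nn q → (∀ a ∈ A, c ^ i * a * (c ^ i)⁻¹ = a → a = 1) ∨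
      (∀ x ∈ X, c ^ i * x * (c ^ i)⁻¹ = x → x = 1)
  hfA : ∀ a ∈ A, c * a * c⁻¹ = a → a = 1
  hfX : ∀ a ∈ X, c * a * c⁻¹ = a → a = 1
  hc1 : c ^ nn q = 1
  pA : ∀ a ∈ A, a ^ p = 1
  pX : ∀ a ∈ X, a ^ p = 1
  hu : ∀ a ∈ A, u⁻¹ * a * u ∈ A
  hb : b ∈ X
  hbu : b * u * b⁻¹ * u⁻¹ ∈ A
  hbu1 : b * u * b⁻¹ * u⁻¹ ≠ 1

theorem nn_cop {p q : ℕ} [Fact p.Prime] {e : ℕ} (he : 0 < e) (hq : q = p ^ e) : (nn q).Coprime p := by
  have hp : p.Prime := Fact.out
  have hq1 : 1 ≤ q := by rw [hq]; exact Nat.one_le_pow _ _ hp.pos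
  rw [Nat.coprime_comm, Nat.Prime.coprime_iff_not_dvd hp]
  intro h
  have h1 : ((p : ℕ) : ℤ) ∣ ((q : ℤ) ^ 2 - 1) * ((q : ℤ) ^ 2 + q + 1) := by
    rw [← nn_int hq1]
    exact_mod_cast h
  have h2 : ((p : ℕ) : ℤ) ∣ (q : ℤ) := by
    rw [hq]
    exact_mod_cast dvd_pow_self p he.ne'
  have h3 : ((p : ℕ) : ℤ) ∣ 1 := by
    have h4 : (1 : ℤ) = (q : ℤ) * ((q : ℤ) ^ 3 + q ^ 2 - 1) - ((q : ℤ) ^ 2 - 1) * ((q : ℤ) ^ 2 + q + 1) := by ring
    rw [h4]
    exact dvd_sub (h2.mul_right _) h1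
  have h4 : p ∣ 1 := by exact_mod_cast h3
  exact hp.one_lt.ne' (Nat.dvd_one.1 h4)

theorem exists_dt {F : Type u} [Field F] [Finite F] {p : ℕ} [Fact p.Prime] [CharP F p] :
    ∃ (A X : Subgroup ↥(chevF4.group F)) (c b u : ↥(chevF4.group F)),
      Dt ↥(chevF4.group F) p (Nat.card F) A X c b u := by
  obtain ⟨k, _, _, f, p', _, hcp, e, hk, -, he, hn⟩ := H378.TorFin.exists_closure F
  have hpp : p' = p := by
    have := charP_of_injective_ringHom f.injective p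
    exact CharP.eq k hcp this
  subst hpp
  obtain ⟨q, hq⟩ : ∃ q, q = Nat.card F := ⟨_, rfl⟩
  rw [← hq]
  have hqe : q = p' ^ e := by rw [hq, hn]
  have hpr : p'.Prime := Fact.out
  have hq2 : 2 ≤ q := by
    rw [hqe]
    exact hpr.two_le.trans (Nat.le_self_pow he.ne' p')
  have hcop := nn_cop (p := p') he hqe
  have h48 : ∀ {j : ℕ}, j < chevF4.nroots → j < 48 := fun {j} hj => by rw [← nroots]; exact hj
  -- the conjugating element and the torus element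
  obtain ⟨z, hz, hzσ⟩ := exists_fixed f4T cs4 hk he (phi_isFrob p' e) (phi_fr f4T cs4 p' hk e)
    (J := {i | i ≠ 2}) (π := id) (L := Lw) (fun _ => rfl) (fun _ h => h) (by
      intro i hi
      have : ∀ i ∈ Lw, i ≠ 2 := by decide
      exact this i hi)
  obtain ⟨t, ht, htn, hθ, h3, h2⟩ := exists_t (k := k) p' cs4 he hqe
  have hfix := hzσ t ht (by intro x; rw [← hqe]; exact hθ x)
  obtain ⟨c, hc⟩ := H378.TorFin.fix_mem f4T f p' hn inv_F4 hfix
  have hinj := emb_injective f4T.inList f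
  -- the subgroups
  obtain ⟨E, hE⟩ : ∃ E : ℤ → Subgroup ↥(chevF4.group k), E = fun d => RGD.Sup (XX chevF4 4 k) (Sd d) := ⟨_, rfl⟩
  have hE2 : ∀ {d : ℤ} {a : ↥(chevF4.group k)}, a ∈ E d ↔ a ∈ RGD.Sup (XX chevF4 4 k) (Sd d) := by
    intro d a; rw [hE]
  have hcomm : ∀ {d d' : ℤ}, 0 < d → 0 < d' → 3 < d + d' → ∀ {a b : ↥(chevF4.group k)}, a ∈ E d → b ∈ E d' →
      a * b = b * a := by
    intro d d' hd hd' h a b ha hb
    exact comm_Sup (comm_deg hd hd' h) (hE2.1 ha) (hE2.1 hb)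
  have hzi : z⁻¹ ∈ RGD.Sup (XX chevF4 4 k) (SJ {i | i ≠ 2}) := inv_mem hz
  have hcE : ∀ {d : ℤ}, 2 ≤ d → ∀ a ∈ E d, z * t * z⁻¹ * a * (z * t * z⁻¹)⁻¹ ∈ E d := by
    intro d hd a ha
    have h4 := levi_conj hd hzi (hE2.1 ha)
    have h5 := tor_conj f4T cs4 Sd_root ht h4
    have h6 := levi_conj hd hz h5
    have e1 : z * t * z⁻¹ * a * (z * t * z⁻¹)⁻¹ = z * (t * (z⁻¹ * a * z⁻¹⁻¹) * t⁻¹) * z⁻¹ := by group
    rw [e1]
    exact hE2.2 h6
  -- fixed points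
  have hpow : ∀ i : ℕ, (z * t * z⁻¹) ^ i = z * t ^ i * z⁻¹ := fun i => conj_pow
  have hfp : ∀ {d : ℤ}, 2 ≤ d → ∀ i : ℕ, (∀ j < 48, vec chevF4 4 j 2 = d → cX f4T t (vec chevF4 4 j) ^ i ≠ 1) →
      ∀ a ∈ E d, (z * t * z⁻¹) ^ i * a * ((z * t * z⁻¹) ^ i)⁻¹ = a → a = 1 := by
    intro d hd i hχ a ha hfa
    have h4 := levi_conj hd hzi (hE2.1 ha)
    have h5 : t ^ i * (z⁻¹ * a * z⁻¹⁻¹) * (t ^ i)⁻¹ = z⁻¹ * a * z⁻¹⁻¹ := by
      rw [hpow] at hfa
      calc t ^ i * (z⁻¹ * a * z⁻¹⁻¹) * (t ^ i)⁻¹ = z⁻¹ * (z * t ^ i * z⁻¹ * a * (z * t ^ i * z⁻¹)⁻¹) * z⁻¹⁻¹ := by group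
        _ = _ := by rw [hfa]
    have h6 := fpf f4T cs4 hcop Sd_root (comm_deg (by omega) (by omega) (by omega)) (pow_mem ht i)
      (by rw [← pow_mul, mul_comm, pow_mul, htn, one_pow]) (fun j hj hjS => by
        rw [← cX_vec f4T (pow_mem ht i) hj, cX_pow f4T ht]
        exact hχ j (h48 hj) hjS.2) h4 h5
    have h7 : a = z * (z⁻¹ * a * z⁻¹⁻¹) * z⁻¹ := by group
    rw [h7, h6]
    group
  -- transport
  have key : ∀ {d : ℤ}, 2 ≤ d → ∀ i : ℕ, (∀ j < 48, vec chevF4 4 j 2 = d → cX f4T t (vec chevF4 4 j) ^ i ≠ 1) →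
      ∀ a ∈ (E d).comap (emb f4T.inList f), c ^ i * a * (c ^ i)⁻¹ = a → a = 1 := by
    intro d hd i hχ a ha hfa
    apply hinj
    rw [map_one]
    refine hfp hd i hχ _ ha ?_
    have h4 := congrArg (emb f4T.inList f) hfa
    rw [map_mul, map_mul, map_inv, map_pow, hc] at h4
    exact h4
  have hcom : ∀ {d d' : ℤ}, 0 < d → 0 < d' → 3 < d + d' → ∀ a ∈ (E d).comap (emb f4T.inList f),
      ∀ b ∈ (E d').comap (emb f4T.inList f), a * b = b * a := by
    intro d d' hd hd' h a ha b hb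
    apply hinj
    rw [map_mul, map_mul]
    exact hcomm hd hd' h ha hb
  have hcj : ∀ {d : ℤ}, 2 ≤ d → ∀ a ∈ (E d).comap (emb f4T.inList f), c * a * c⁻¹ ∈ (E d).comap (emb f4T.inList f) := by
    intro d hd a ha
    rw [mem_comap, map_mul, map_mul, map_inv, hc]
    exact hcE hd _ ha
  have hpw : ∀ {d : ℤ}, 2 ≤ d → ∀ a ∈ (E d).comap (emb f4T.inList f), a ^ p' = 1 := by
    intro d hd a ha
    apply hinj
    rw [map_pow, map_one]
    exact pow_Sup f4T cs4 Sd_root (comm_deg (by omega) (by omega) (by omega)) (hE2.1 ha)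
  have hx : ∀ {j : ℕ} {d : ℤ}, j < 48 → vec chevF4 4 j 2 = d → ∀ s : F,
      xc f4T (vec chevF4 4 j) s ∈ (E d).comap (emb f4T.inList f) := by
    intro j d hj hd s
    have hj' : j < chevF4.nroots := by rw [nroots]; exact hj
    rw [mem_comap, BpExc.TowChev.emb_xc f4T f]
    have hS : vec chevF4 4 j ∈ Sd d := ⟨isRoot_vec f4T cs4 hj', hd⟩
    have hm : xc f4T (vec chevF4 4 j) (f s) ∈ XX chevF4 4 k (vec chevF4 4 j) := (mem_XX f4T hj').2 ⟨_, rfl⟩
    exact hE2.2 (RGD.le_Sup hS hm)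
  have h32 : vec chevF4 4 32 2 = 2 := by unfold vec; decide +kernel
  have h41 : vec chevF4 4 41 2 = 1 := by unfold vec; decide +kernel
  have hq21 : ¬ q ^ 2 - 1 ∣ 1 := by
    have h4 : 2 ^ 2 ≤ q ^ 2 := Nat.pow_le_pow_left hq2 2
    rw [Nat.dvd_one]
    omega
  refine ⟨(E 3).comap (emb f4T.inList f), (E 2).comap (emb f4T.inList f), c, xc f4T (vec chevF4 4 32) 1,
    xc f4T (vec chevF4 4 41) 1, hcom (by norm_num) (by norm_num) (by norm_num),
    hcom (by norm_num) (by norm_num) (by norm_num), hcom (by norm_num) (by norm_num) (by norm_num), hcj (by norm_num),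
    hcj (by norm_num), ?_, ?_, ?_, ?_, hpw (by norm_num), hpw (by norm_num), ?_, hx (by norm_num) h32 1, ?_, ?_⟩
  · intro i hi0 hi
    by_cases hqi : q ^ 2 - 1 ∣ i
    · exact Or.inr (key (by norm_num) i fun j hj hd h1 =>
        absurd (Nat.le_of_dvd hi0 (h2 i j hj hd hqi h1)) (not_le.2 hi))
    · exact Or.inl (key (by norm_num) i fun j hj hd h1 => hqi (h3 i j hj hd h1))
  · have h4 := key (d := 3) (by norm_num) 1 fun j hj hd h1 => hq21 (h3 1 j hj hd h1)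
    rw [pow_one] at h4
    exact h4
  · have h4 := key (d := 2) (by norm_num) 1 fun j hj hd h1 => by
      rw [pow_one] at h1
      have h5 := h2 (q ^ 2 - 1) j hj hd dvd_rfl (by rw [h1, one_pow])
      have h6 : 2 ^ 2 ≤ q ^ 2 := Nat.pow_le_pow_left hq2 2
      have h7 := Nat.le_of_dvd (by omega) h5
      have h8 : ((nn q : ℕ) : ℤ) ≤ ((q ^ 2 - 1 : ℕ) : ℤ) := by exact_mod_cast h7
      rw [nn_int (by omega), sq_int (by omega)] at h8
      have h9 : (2 : ℤ) ≤ (q : ℤ) := by exact_mod_cast hq2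
      nlinarith [mul_pos (show (0 : ℤ) < (q : ℤ) ^ 2 - 1 by nlinarith) (show (0 : ℤ) < (q : ℤ) ^ 2 + q by nlinarith)]
    rw [pow_one] at h4
    exact h4
  · apply hinj
    rw [map_pow, map_one, hc, hpow, htn, mul_one, mul_inv_cancel]
  · intro a ha
    have h4 := hcom (d := 1) (d' := 3) (by norm_num) (by norm_num) (by norm_num) _ (hx (by norm_num) h41 1) a ha
    have h5 : (xc f4T (vec chevF4 4 41) (1 : F))⁻¹ * a * xc f4T (vec chevF4 4 41) 1 = a := by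
      rw [mul_assoc, ← h4]
      group
    rw [h5]
    exact ha
  · rw [mem_comap]
    simp only [map_mul, map_inv]
    rw [BpExc.TowChev.emb_xc f4T f, BpExc.TowChev.emb_xc f4T f]
    exact hE2.2 (root_comm ((mem_XX f4T (by decide +kernel)).2 ⟨_, rfl⟩) ((mem_XX f4T (by decide +kernel)).2 ⟨_, rfl⟩))
  · exact root_comm_ne

/-! ### consequences -/

section Cons

variable {L : Type*} [Group L] {p q : ℕ} {A X : Subgroup L} {c b u : L}

theorem Dt.ne_one (h : Dt L p q A X c b u) : b ≠ 1 := by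
  rintro rfl
  exact h.hbu1 (by group)

theorem Dt.order (h : Dt L p q A X c b u) (hq : 2 ≤ q) : orderOf c = nn q := by
  have h1 := orderOf_mul_c A X h.hA h.hX h.hAX c h.hcA h.hcX (nn q) (nn_pos hq) h.hfree h.hfA h.hfX h.hbu h.hbu1
    h.hb h.ne_one h.hc1 (one_mem A) (one_mem X)
  rwa [one_mul, one_mul] at h1

theorem card_ne {k : Type*} [Field k] [hp : Fact p.Prime] (hpk : (p : k) ≠ 0) {H : Subgroup L} [Fintype H]
    (h : ∀ g ∈ H, g ^ p = 1) : (Fintype.card H : k) ≠ 0 := by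
  have h1 : IsPGroup p H := by
    rintro ⟨g, hg⟩
    exact ⟨1, Subtype.ext (by rw [pow_one]; exact h g hg)⟩
  obtain ⟨n, hn⟩ := IsPGroup.iff_card.1 h1
  rw [← Nat.card_eq_fintype_card, hn, Nat.cast_pow]
  exact pow_ne_zero _ hpk

theorem Dt.fix [Finite L] (h : Dt L p q A X c b u) [hp : Fact p.Prime] (hq : 2 ≤ q) {k V : Type*} [Field k]
    [AddCommGroup V] [Module k V] (hpk : (p : k) ≠ 0) (ρ : L →* (V →ₗ[k] V))
    (hN : ∀ l : L, orderOf l = nn q → ∀ v : V, ∑ i ∈ Finset.range (orderOf l), ρ (l ^ i) v = 0) (v : V) :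
    ρ (b * u * b⁻¹ * u⁻¹) v = v := by
  have := Fintype.ofFinite ↥A
  have := Fintype.ofFinite ↥X
  exact comm_trivial ρ A X h.hA h.hX h.hAX c h.hcA h.hcX (nn q) (nn_pos hq) h.hfree h.hfA h.hfX h.hc1
    (card_ne hpk h.pA) (card_ne hpk h.pX) h.hu h.hb h.hbu h.hbu1 hN v

end Cons

/-- the linear action -/
noncomputable def lin' {r : ℕ} {H : Type*} [Group H] {V : Type*} [AddCommGroup V] [Module (ZMod r) V]
    (φ : H →* AddMonoid.End V) : H →* (V →ₗ[ZMod r] V) where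
  toFun h :=
    { toFun := φ h
      map_add' := fun a b => map_add (φ h) a b
      map_smul' := fun c v => ZMod.map_smul (φ h) c v }
  map_one' := by
    ext v
    show φ 1 v = v
    rw [map_one]; rfl
  map_mul' a b := by
    ext v
    show φ (a * b) v = φ a (φ b v)
    rw [map_mul]; rfl

/-- `(q ^ 3 - 1) (q + 1)` times a prime is not an order -/
theorem not_order {F : Type u} [Field F] [Finite F] {p : ℕ} [Fact p.Prime] [CharP F p] {r : ℕ} (hr : r.Prime)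
    (hrp : r ≠ p) (hcop : (nn (Nat.card F)).Coprime p) (hq : 2 ≤ Nat.card F) :
    ¬ ∃ y : ↥(chevF4.group F), orderOf y = r * nn (Nat.card F) := by
  rintro ⟨y, hy⟩
  have hp : p.Prime := Fact.out
  obtain ⟨b, m, hO⟩ := Cfsg.Agent.H378.OmF4.om_F4 (p := p) (q := Nat.card F) rfl y
  obtain ⟨q, hqd⟩ : ∃ q, q = Nat.card F := ⟨_, rfl⟩
  rw [← hqd] at hO hcop hy hq
  rw [hy] at hO
  have hb : b = 0 := by
    by_contra hb
    have h1 : p ∣ r * nn q := by
      rw [hO.eq]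
      exact (dvd_pow_self p hb).mul_right _
    rcases (Nat.Prime.dvd_mul hp).1 h1 with h | h
    · exact hrp ((Nat.prime_dvd_prime_iff_eq hp hr).1 h).symm
    · have := Nat.dvd_gcd h dvd_rfl
      rw [hcop] at this
      exact hp.one_lt.ne' (Nat.dvd_one.1 this)
  have hm : m = r * nn q := by
    have h1 := hO.eq
    rw [hb, pow_zero, one_mul] at h1
    exact h1.symm
  have hr2 := hr.two_le
  have hmn : 2 * nn q ≤ m := by
    rw [hm]
    exact Nat.mul_le_mul_right _ hr2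
  obtain ⟨s, rfl⟩ : ∃ s, q = s + 2 := ⟨q - 2, by omega⟩
  have e3 : (s + 2) ^ 3 - 1 = s ^ 3 + 6 * s ^ 2 + 12 * s + 7 := by
    have : (s + 2) ^ 3 = s ^ 3 + 6 * s ^ 2 + 12 * s + 8 := by ring
    omega
  have en : nn (s + 2) = s ^ 4 + 9 * s ^ 3 + 30 * s ^ 2 + 43 * s + 21 := by
    unfold CovTor.nn
    rw [e3]
    ring
  have e4 : (s + 2) ^ 4 = s ^ 4 + 8 * s ^ 3 + 24 * s ^ 2 + 32 * s + 16 := by ring
  have e2 : (s + 2) ^ 2 = s ^ 2 + 4 * s + 4 := by ring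
  have e5 : ((s + 2) ^ 3 + 1) * (s + 2 - 1) = s ^ 4 + 7 * s ^ 3 + 18 * s ^ 2 + 21 * s + 9 := by
    have : s + 2 - 1 = s + 1 := by omega
    rw [this]
    ring
  have e6 : ((s + 2) ^ 3 - 1) * (s + 2 + 1) = s ^ 4 + 9 * s ^ 3 + 30 * s ^ 2 + 43 * s + 21 := by
    rw [e3]
    ring
  rw [en] at hmn
  obtain ⟨x4, h4⟩ : ∃ x4, x4 = s ^ 4 := ⟨_, rfl⟩
  obtain ⟨x3, h3⟩ : ∃ x3, x3 = s ^ 3 := ⟨_, rfl⟩
  obtain ⟨x2, h2⟩ : ∃ x2, x2 = s ^ 2 := ⟨_, rfl⟩
  rw [← h4, ← h3, ← h2] at hmn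
  rcases hO.s0 with h | h | h | h | h
  · have := Nat.le_of_dvd (by omega) h
    rw [e4, e2, ← h4, ← h3, ← h2] at this
    omega
  · have := Nat.le_of_dvd (by omega) h
    rw [e4, ← h4, ← h3, ← h2] at this
    omega
  · have := Nat.le_of_dvd (by rw [e4]; omega) h
    rw [e4, ← h4, ← h3, ← h2] at this
    omega
  · rw [e6, ← h4, ← h3, ← h2] at h
    have := Nat.le_of_dvd (by omega) h
    omega
  · rw [e5, ← h4, ← h3, ← h2] at h
    have := Nat.le_of_dvd (by omega) h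
    omega

theorem not_order12 {F : Type u} [Field F] [Finite F] {r : ℕ} (hr : r.Prime) (hq : 2 ≤ Nat.card F) :
    ¬ ∃ y : ↥(chevF4.group F), orderOf y = r * N (Nat.card F) := by
  rintro ⟨y, hy⟩
  have h1 := N_add (Nat.card F)
  have h2 : Nat.card F ^ 2 < Nat.card F ^ 4 := Nat.pow_lt_pow_right hq (by norm_num)
  obtain ⟨s, hs, hsN⟩ := Nat.exists_prime_and_dvd (show N (Nat.card F) ≠ 1 by omega)
  have h3 := iso12 (F := F) hs hsN (x := y) (by rw [hy]; exact hsN.mul_left _)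
  rw [hy] at h3
  have h4 := Nat.le_of_dvd (by omega) h3
  have h5 := Nat.mul_le_mul_right (N (Nat.card F)) hr.two_le
  omega

theorem num_cop {r q : ℕ} (hr : r.Prime) (hq : 1 ≤ q) (h1 : r ∣ nn q) (h2 : r ∣ N q) : False := by
  have hN : ((N q : ℕ) : ℤ) = (q : ℤ) ^ 4 - q ^ 2 + 1 := by
    have h3 := N_add q
    have h4 : ((N q : ℕ) : ℤ) + (q : ℤ) ^ 2 = (q : ℤ) ^ 4 + 1 := by exact_mod_cast h3
    linarith
  have h2' : (r : ℤ) ∣ (q : ℤ) ^ 4 - q ^ 2 + 1 := by rw [← hN]; exact_mod_cast h2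
  have h1' : (r : ℤ) ∣ ((q : ℤ) ^ 2 - 1) * ((q : ℤ) ^ 2 + q + 1) := by rw [← nn_int hq]; exact_mod_cast h1
  have hrZ : Prime (r : ℤ) := Nat.prime_iff_prime_int.1 hr
  have h3 : (r : ℤ) ∣ 2 := by
    rcases hrZ.dvd_or_dvd h1' with h | h
    · have e : (2 : ℤ) = 2 * ((q : ℤ) ^ 4 - q ^ 2 + 1) - (2 * (q : ℤ) ^ 2) * ((q : ℤ) ^ 2 - 1) := by ring
      rw [e]
      exact dvd_sub (h2'.mul_left _) (h.mul_left _)
    · have e : (2 : ℤ) = ((q : ℤ) ^ 2 + 1) * ((q : ℤ) ^ 4 - q ^ 2 + 1) -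
          (((q : ℤ) - 1) * ((q : ℤ) ^ 3 + 1)) * ((q : ℤ) ^ 2 + q + 1) := by ring
      rw [e]
      exact dvd_sub (h2'.mul_left _) (h.mul_left _)
  have h4 : r ∣ 2 := by exact_mod_cast h3
  have h5 : r = 2 := (Nat.prime_dvd_prime_iff_eq hr Nat.prime_two).1 h4
  rw [h5] at h2
  exact not_two_dvd_N q h2

/-- **Covers in cross characteristic.** -/
theorem covX (F : Type v) [Field F] [Fintype F] (r : ℕ) (hr : r.Prime) (hrF : ¬ r ∣ Fintype.card F) (V : Type u)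
    [AddCommGroup V] [Finite V] [Nontrivial V] (hV : ∀ v : V, r • v = 0) (φ : ↥(chevF4.group F) →* AddMonoid.End V) :
    ∃ (x : ↥(chevF4.group F)) (v : V), ∑ i ∈ Finset.range (orderOf x), φ (x ^ i) v ≠ 0 ∧
      ¬ ∃ y : ↥(chevF4.group F), orderOf y = r * orderOf x := by
  obtain ⟨p, hpc⟩ := CharP.exists F
  have hp : p.Prime := CharP.char_is_prime F p
  have hpf : Fact p.Prime := ⟨hp⟩
  have hrf : Fact r.Prime := ⟨hr⟩
  obtain ⟨e, -, he⟩ := FiniteField.card F p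
  have hq : 2 ≤ Nat.card F := Finite.one_lt_card
  have hcard : Nat.card F = p ^ (e : ℕ) := by rw [Nat.card_eq_fintype_card]; exact he
  have hrp : r ≠ p := by
    rintro rfl
    exact hrF (by rw [he]; exact dvd_pow_self _ e.pos.ne')
  have hcop := nn_cop (p := p) e.pos hcard
  obtain ⟨A, X, c, b, u, hD⟩ := exists_dt (F := F) (p := p)
  have hc := hD.order hq
  by_contra hcon
  push Not at hcon
  have hno := not_order (F := F) (p := p) hr hrp hcop hq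
  have hno12 := not_order12 (F := F) hr hq
  -- the action is trivial
  let _ : Module (ZMod r) V := AddCommGroup.zmodModule hV
  have hpk : ((p : ℕ) : ZMod r) ≠ 0 := by
    intro h
    rw [ZMod.natCast_eq_zero_iff] at h
    exact hrp ((Nat.prime_dvd_prime_iff_eq hr hp).1 h)
  have hzero : ∀ l : ↥(chevF4.group F), (¬ ∃ y : ↥(chevF4.group F), orderOf y = r * orderOf l) → ∀ v : V,
      ∑ i ∈ Finset.range (orderOf l), φ (l ^ i) v = 0 := by
    intro l hl v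
    by_contra hne
    obtain ⟨y, hy⟩ := hcon l v hne
    exact hl ⟨y, hy⟩
  have h1 : ∀ v : V, φ (b * u * b⁻¹ * u⁻¹) v = v := fun v =>
    hD.fix hq hpk (lin' φ) (fun l hl v => hzero l (by rw [hl]; exact hno) v) v
  have hs : IsSimpleGroup ↥(chevF4.group F) := (Cfsg.Agent.S1054.result chevF4 (by simp)).1
  have hker : φ.ker = ⊤ := by
    rcases IsSimpleGroup.eq_bot_or_eq_top_of_normal φ.ker inferInstance with h | h
    · exfalso
      have h2 : b * u * b⁻¹ * u⁻¹ ∈ φ.ker := by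
        rw [MonoidHom.mem_ker]
        ext v
        exact h1 v
      rw [h, Subgroup.mem_bot] at h2
      exact hD.hbu1 h2
    · exact h
  have htriv : ∀ g : ↥(chevF4.group F), φ g = 1 := fun g => by
    have : g ∈ φ.ker := by rw [hker]; exact Subgroup.mem_top g
    exact this
  have hmul : ∀ l : ↥(chevF4.group F), (¬ ∃ y : ↥(chevF4.group F), orderOf y = r * orderOf l) → r ∣ orderOf l := by
    intro l hl
    by_contra hd
    obtain ⟨v, hv⟩ := exists_ne (0 : V)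
    have h2 := hzero l hl v
    have h3 : ∀ i ∈ Finset.range (orderOf l), φ (l ^ i) v = v := fun i _ => by rw [htriv]; rfl
    rw [Finset.sum_congr rfl h3, Finset.sum_const, Finset.card_range] at h2
    have h4 : addOrderOf v ∣ Nat.gcd r (orderOf l) :=
      Nat.dvd_gcd (addOrderOf_dvd_of_nsmul_eq_zero (hV v)) (addOrderOf_dvd_of_nsmul_eq_zero h2)
    rw [(Nat.Prime.coprime_iff_not_dvd hr).2 hd, Nat.dvd_one, AddMonoid.addOrderOf_eq_one_iff] at h4
    exact hv h4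
  have h2 : r ∣ nn (Nat.card F) := by
    rw [← hc]
    exact hmul c (by rw [hc]; exact hno)
  obtain ⟨x, hx⟩ := elt12 F
  have h3 : r ∣ N (Nat.card F) := by
    rw [← hx]
    exact hmul x (by rw [hx]; exact hno12)
  exact num_cop hr (by omega) h2 h3

end Cfsg.Agent.H224.F4R.CovF
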