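import Cfsg.Agent.H628.Exc.Elem
import Cfsg.Agent.H378.AdjF4

/-!
# A cyclic torus of order `(q ^ 3 - 1) (q + 1)` of `F₄` (helper224, S3479)

`w = s₀ s₁ s₃`; the torus element `t` of order dividing `n = (q ^ 3 - 1) (q + 1)` with `χ_{w x}(t) = χ_x(t) ^ q`:
* `χ_g(t) ^ i = 1` for a root `g` with third coordinate 3 implies `q ^ 2 - 1 ∣ i`;
* `χ_b(t) ^ i = 1` for a root `b` with third coordinate 2 and `q ^ 2 - 1 ∣ i` imply `n ∣ i`.
-/

set_option autoImplicit false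
set_option linter.unusedSectionVars false

namespace Cfsg.Agent.H224.F4R.CovTor

open CoxeterSystem Cfsg Cfsg.Lie Cfsg.Lie.ChevalleyDatum
open Cfsg.Agent.ChevalleyStructure Cfsg.Agent.ChevalleyStructure.Elts Cfsg.Agent.ChevalleyStructure.CoxeterGeom
  Cfsg.Agent.ChevalleyStructure.CoxeterGeomTypes Cfsg.Agent.ChevalleyStructure.NPerm
open Cfsg.Agent.Tits.Roots Cfsg.Agent.Tits.Core Cfsg.Agent.Nodes Cfsg.Agent.Nodes.Reps Cfsg.Agent.Nodes.BNOf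
  Cfsg.Agent.Nodes.RGDChev Cfsg.Agent.Nodes.Bruhat
open Cfsg.Agent.KFacts.RgdField Cfsg.Agent.KFacts.RgdChevCoord Cfsg.Agent.BpExc.TorCent Cfsg.Agent.BpExc.TorChev
open Cfsg.Agent.BpExc.Tow Cfsg.Agent.BpExc.TowChev Cfsg.Agent.BpExc.Fr
  Cfsg.Agent.BpExc Cfsg.Agent.H129.TorusChar Cfsg.Agent.H129.TorusMain
open Cfsg.Agent.H129.WData (Mat)
open Cfsg.Agent.H628.Exc.Func

universe u

/-! ### roots of unity -/

section Root

variable {k : Type*} [Field k] {n : ℕ} [NeZero n] {ζ : k}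

theorem pv_add (hζ : ζ ^ n = 1) (a b : ZMod n) : ζ ^ (a + b).val = ζ ^ a.val * ζ ^ b.val := by
  rw [ZMod.val_add, ← pow_add]
  conv_rhs => rw [← Nat.mod_add_div (a.val + b.val) n, pow_add, pow_mul, hζ, one_pow, mul_one]

theorem pv_mul (hζ : ζ ^ n = 1) (q : ℕ) (b : ZMod n) : ζ ^ ((q : ZMod n) * b).val = (ζ ^ b.val) ^ q := by
  rw [ZMod.val_mul, ZMod.val_natCast, ← pow_mul]
  have h1 : (q % n * b.val) % n = (b.val * q) % n := by
    rw [Nat.mod_mul_mod, mul_comm]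
  rw [h1]
  conv_rhs => rw [← Nat.mod_add_div (b.val * q) n, pow_add, pow_mul ζ n, hζ, one_pow, mul_one]

theorem pv_eq_one (hζ : orderOf ζ = n) (a : ZMod n) (h : ζ ^ a.val = 1) : a = 0 := by
  have h2 := orderOf_dvd_of_pow_eq_one h
  rw [hζ] at h2
  by_contra ha
  have h3 := Nat.le_of_dvd (Nat.pos_of_ne_zero (fun h0 => ha ((ZMod.val_eq_zero a).1 h0))) h2
  exact absurd (ZMod.val_lt a) (not_lt.2 h3)

end Root

/-! ### torus elements -/

section Tor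

variable {D : ChevalleyDatum} {l : ℕ} {M : CoxeterMatrix (Fin l)} (hp : IsType D l M) {k : Type u} [Field k]
  {W : Type*} [Group W] (cs : CoxeterSystem M W)

include hp cs in
theorem exists_tor' [IsAlgClosed k] {d : ℕ} {B : Fin l → Fin l → ℤ} (hB : InvC D l d B) (hd : d ≠ 0)
    {n : ℕ} [NeZero n] {ζ : k} (hζ : ζ ^ n = 1) {A : Mat l} (hA : ∀ i j, A i j = cartanOf D l i j)
    {L : List (Fin l)} {m : ℕ} {V : Fin l → Fin (m + 1) → ℤ} {Φ : Fin (m + 1) → ℤ} (hV : EigOK A L id V Φ) {q : ℕ}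
    (hx : (q : ZMod n) ^ (m + 1) + ev (q : ZMod n) Φ = 0) :
    ∃ t ∈ TT D k, t ^ n = 1 ∧
      (∀ x, cX hp t x = ζ ^ (lin (fun j => ev (q : ZMod n) (V j)) x).val) ∧
      (∀ x, cX hp t (theta hp cs (cs.wordProd L) (AddEquiv.refl _) x) = cX hp t x ^ q) := by
  have hMC : IsMC (fun x : Fin l → ℤ => ζ ^ (lin (fun j => ev (q : ZMod n) (V j)) x).val) :=
    { zero := by
        rw [map_zero, ZMod.val_zero, pow_zero]
      add := fun x y => by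
        rw [map_add, pv_add hζ] }
  obtain ⟨t, ht, hχ⟩ := exists_cX hp hB hd hMC fun _ => IsAlgClosed.exists_pow_nat_eq _ (Nat.pos_of_ne_zero hd)
  refine ⟨t, ht, ?_, hχ, fun x => ?_⟩
  · refine cX_inj hp (pow_mem ht n) (one_mem _) fun i => ?_
    rw [cX_pow hp ht, hχ, cX_one, ← pow_mul, mul_comm, pow_mul, hζ, one_pow]
  · have h1 := lin_theta hp cs hA L (π := id) (g := AddEquiv.refl _) (fun _ => rfl)
      (φ := fun j => ev (q : ZMod n) (V j)) (AddMonoidHom.mulLeft (q : ZMod n)) (fun j => hV.eval hx j) x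
    rw [hχ, hχ, h1]
    exact pv_mul hζ q _

theorem lin_ev {R : Type*} [CommRing R] {m : ℕ} (x : R) (V : Fin l → Fin (m + 1) → ℤ) (v : Fin l → ℤ)
    {u : Fin (m + 1) → ℤ} (h : ∀ i, ∑ j, v j * V j i = u i) : lin (fun j => ev x (V j)) v = ev x u := by
  have h1 : u = ∑ j, v j • V j := by
    funext i
    rw [← h i, Finset.sum_apply]
    exact Finset.sum_congr rfl fun j _ => by rw [Pi.smul_apply, smul_eq_mul]
  rw [h1, map_sum, lin_apply]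
  exact Finset.sum_congr rfl fun j _ => (map_zsmul _ _ _).symm

end Tor

/-! ### arithmetic -/

section Num

variable {q i : ℤ}

theorem cop_q : IsCoprime (q ^ 2 + q + 1) q := ⟨1, -(q + 1), by ring⟩

theorem cop_q1 : IsCoprime (q ^ 2 + q + 1) (q + 1) := ⟨1, -q, by ring⟩

theorem cop_two : IsCoprime (q ^ 2 + q + 1) 2 := by
  obtain ⟨m, hm⟩ := Int.even_mul_succ_self q
  exact ⟨1, -m, by linear_combination hm⟩

theorem cop_of_add {F G : ℤ} (m : ℤ) (h : IsCoprime (q ^ 2 + q + 1) F) (e : G = F + (q ^ 2 + q + 1) * m) :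
    IsCoprime (q ^ 2 + q + 1) G := by
  rw [e]
  exact h.add_mul_left_right m

theorem deg_two {F : ℤ} (hq : 2 ≤ q) (hF : IsCoprime (q ^ 2 + q + 1) F) (hi : q ^ 2 - 1 ∣ i)
    (h : (q ^ 2 - 1) * (q ^ 2 + q + 1) ∣ i * F) : (q ^ 2 - 1) * (q ^ 2 + q + 1) ∣ i := by
  obtain ⟨j, rfl⟩ := hi
  have h0 : q ^ 2 - 1 ≠ 0 := by nlinarith
  rw [mul_assoc] at h
  exact mul_dvd_mul_left _ (hF.dvd_of_dvd_mul_right ((mul_dvd_mul_iff_left h0).1 h))

theorem deg_three {a : ℕ} (hq : 2 ≤ q) (h : (q ^ 2 - 1) * (q ^ 2 + q + 1) ∣ i * (q ^ a * (q ^ 2 + q + 1))) :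
    q ^ 2 - 1 ∣ i := by
  have h0 : q ^ 2 + q + 1 ≠ 0 := by nlinarith
  rw [← mul_assoc] at h
  have h1 := (mul_dvd_mul_iff_right h0).1 h
  have h2 : IsCoprime (q ^ 2 - 1) (q ^ a) := IsCoprime.pow_right ⟨-1, q, by ring⟩
  exact h2.dvd_of_dvd_mul_right h1

end Num

/-! ### `F₄` -/

/-- the Coxeter element of the Levi factor of type `A₁ × Ã₂` -/
def Lw : List (Fin 4) := [0, 1, 3]

/-- the eigenfunctional -/
def Vf : Fin 4 → Fin (3 + 1) → ℤ := ![![0, 1, 0, -1], ![-1, -1, 1, 1], ![2, 1, -1, -1], ![-1, 0, 0, 1]]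

/-- `x ^ 4 + x ^ 3 - x - 1` -/
def Ph : Fin (3 + 1) → ℤ := ![-1, -1, 0, 1]

theorem eig : EigOK H378.AdjF4.Am Lw id Vf Ph := by decide +kernel

/-- the values on the roots of degree 2 and 3 -/
def tab : List (ℕ × (Fin (3 + 1) → ℤ)) := [(32, ![1, 0, 0, 1]), (39, ![1, 1, 0, 0]), (40, ![0, 0, 1, 1]),
  (43, ![1, 2, 0, -1]), (44, ![0, 1, 1, 0]), (45, ![-1, 0, 2, 1])]

theorem tab_ok : ∀ c ∈ tab, ∀ i, ∑ j, vec chevF4 4 c.1 j * Vf j i = c.2 i := by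
  unfold vec
  decide +kernel

theorem idx_two : ∀ j < 48, vec chevF4 4 j 2 = 2 → j ∈ tab.map Prod.fst := by
  unfold vec
  decide +kernel

theorem idx_three : ∀ j < 48, vec chevF4 4 j 2 = 3 → j = 46 ∨ j = 47 := by
  unfold vec
  decide +kernel

theorem val46 : ∀ i, ∑ j, vec chevF4 4 46 j * Vf j i = (![1, 1, 1, 0] : Fin (3 + 1) → ℤ) i := by
  unfold vec
  decide +kernel

theorem val47 : ∀ i, ∑ j, vec chevF4 4 47 j * Vf j i = (![0, 1, 1, 1] : Fin (3 + 1) → ℤ) i := by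
  unfold vec
  decide +kernel

theorem ev_int {n : ℕ} (q : ℕ) (u : Fin (3 + 1) → ℤ) :
    ev (q : ZMod n) u = ((u 0 + u 1 * q + u 2 * q ^ 2 + u 3 * q ^ 3 : ℤ) : ZMod n) := by
  rw [ev_apply, Fin.sum_univ_four]
  push_cast
  simp

/-- the coprimality of the values in degree 2 -/
theorem tab_cop (q : ℤ) : ∀ c ∈ tab, IsCoprime (q ^ 2 + q + 1) (c.2 0 + c.2 1 * q + c.2 2 * q ^ 2 + c.2 3 * q ^ 3) := by
  intro c hc
  have h2 := cop_two (q := q)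
  have hq := cop_q (q := q)
  have hq1 := cop_q1 (q := q)
  simp only [tab, List.mem_cons, List.not_mem_nil, or_false] at hc
  rcases hc with rfl | rfl | rfl | rfl | rfl | rfl
  · refine cop_of_add (q - 1) h2 ?_
    simp
    ring
  · refine cop_of_add 0 hq1 ?_
    simp
    ring
  · refine cop_of_add 0 ((hq.mul_right hq).mul_right hq1) ?_
    simp
    ring
  · refine cop_of_add (-(q - 1)) (h2.mul_right hq) ?_
    simp
    ring
  · refine cop_of_add 0 (hq.mul_right hq1) ?_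
    simp
    ring
  · refine cop_of_add (q - 1) (h2.mul_right (hq.mul_right hq)) ?_
    simp
    ring

/-- `(q ^ 3 - 1) (q + 1)` -/
def nn (q : ℕ) : ℕ := (q ^ 3 - 1) * (q + 1)

theorem nn_int {q : ℕ} (hq : 1 ≤ q) : ((nn q : ℕ) : ℤ) = ((q : ℤ) ^ 2 - 1) * ((q : ℤ) ^ 2 + q + 1) := by
  have h1 : 1 ≤ q ^ 3 := Nat.one_le_pow _ _ hq
  unfold nn
  push_cast [Nat.cast_sub h1]
  ring

theorem sq_int {q : ℕ} (hq : 1 ≤ q) : ((q ^ 2 - 1 : ℕ) : ℤ) = (q : ℤ) ^ 2 - 1 := by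
  have h1 : 1 ≤ q ^ 2 := Nat.one_le_pow _ _ hq
  push_cast [Nat.cast_sub h1]
  ring

theorem nn_pos {q : ℕ} (hq : 2 ≤ q) : 0 < nn q := by
  have h1 : 2 ^ 3 ≤ q ^ 3 := Nat.pow_le_pow_left hq 3
  unfold nn
  exact Nat.mul_pos (by omega) (by omega)

/-- from `χ ^ i = 1` to divisibility -/
theorem dvd_of_pow {k : Type*} [Field k] {q : ℕ} [NeZero (nn q)] {ζ : k} (hζ : orderOf ζ = nn q)
    {u : Fin (3 + 1) → ℤ} {i : ℕ} (hq : 1 ≤ q) (h : (ζ ^ (ev (q : ZMod (nn q)) u).val) ^ i = 1) :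
    ((q : ℤ) ^ 2 - 1) * ((q : ℤ) ^ 2 + q + 1) ∣ (i : ℤ) * (u 0 + u 1 * q + u 2 * q ^ 2 + u 3 * q ^ 3) := by
  have hζ1 : ζ ^ nn q = 1 := by rw [← hζ]; exact pow_orderOf_eq_one ζ
  rw [← pv_mul hζ1] at h
  have h1 := pv_eq_one hζ _ h
  rw [ev_int] at h1
  rw [← nn_int hq]
  have h2 : (((i : ℤ) * (u 0 + u 1 * q + u 2 * q ^ 2 + u 3 * q ^ 3) : ℤ) : ZMod (nn q)) = 0 := by
    push_cast at h1 ⊢
    exact h1
  exact (ZMod.intCast_zmod_eq_zero_iff_dvd _ _).1 h2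

section Main

variable {k : Type u} [Field k] [IsAlgClosed k] (p : ℕ) [Fact p.Prime] [CharP k p] {e : ℕ} {W : Type*} [Group W]
  (cs : CoxeterSystem CoxeterMatrix.F₄ W)

include p in
/-- **The torus element.** -/
theorem exists_t (he : 0 < e) {q : ℕ} (hq : q = p ^ e) : ∃ t ∈ TT chevF4 k, t ^ nn q = 1 ∧
    (∀ x, cX RowsUntw.f4T t (theta RowsUntw.f4T cs (cs.wordProd Lw) (AddEquiv.refl _) x) = cX RowsUntw.f4T t x ^ q) ∧
    (∀ i j : ℕ, j < 48 → vec chevF4 4 j 2 = 3 → cX RowsUntw.f4T t (vec chevF4 4 j) ^ i = 1 → q ^ 2 - 1 ∣ i) ∧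
    (∀ i j : ℕ, j < 48 → vec chevF4 4 j 2 = 2 → q ^ 2 - 1 ∣ i → cX RowsUntw.f4T t (vec chevF4 4 j) ^ i = 1 →
      nn q ∣ i) := by
  have hp : p.Prime := Fact.out
  have hq2 : 2 ≤ q := by
    rw [hq]
    exact hp.two_le.trans (Nat.le_self_pow he.ne' p)
  have hq1 : 1 ≤ q := by omega
  have hqZ : (2 : ℤ) ≤ (q : ℤ) := by exact_mod_cast hq2
  have : NeZero (nn q) := ⟨(nn_pos hq2).ne'⟩
  -- a root of unity
  have hnk : ((nn q : ℕ) : k) ≠ 0 := by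
    have h0 : ((q : ℕ) : k) = 0 := by
      rw [hq, CharP.cast_eq_zero_iff k p]
      exact dvd_pow_self p he.ne'
    have h1 : ((nn q : ℕ) : k) = (((nn q : ℕ) : ℤ) : k) := by push_cast; rfl
    rw [h1, nn_int hq1]
    push_cast
    rw [h0]
    norm_num
  have : NeZero ((nn q : ℕ) : k) := ⟨hnk⟩
  obtain ⟨ζ, hζ⟩ := HasEnoughRootsOfUnity.exists_primitiveRoot k (nn q)
  have hζo : orderOf ζ = nn q := hζ.eq_orderOf.symm
  have hx : (q : ZMod (nn q)) ^ (3 + 1) + ev (q : ZMod (nn q)) Ph = 0 := by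
    rw [ev_int]
    have h1 : ((q : ZMod (nn q)) ^ (3 + 1) + (((Ph 0 + Ph 1 * q + Ph 2 * q ^ 2 + Ph 3 * q ^ 3 : ℤ)) : ZMod (nn q))) =
        (((nn q : ℕ) : ℤ) : ZMod (nn q)) := by
      rw [nn_int hq1]
      simp [Ph]
      ring
    rw [h1]
    push_cast
    exact ZMod.natCast_self _
  obtain ⟨t, ht, htn, hχ, hθ⟩ := exists_tor' RowsUntw.f4T cs FamInst.inv_F4 one_ne_zero hζ.pow_eq_one H378.AdjF4.hA eig hx
  refine ⟨t, ht, htn, hθ, ?_, ?_⟩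
  · intro i j hj h3 h1
    have key : ∀ (a : ℕ) (u : Fin (3 + 1) → ℤ), (∀ m, ∑ j', vec chevF4 4 j j' * Vf j' m = u m) →
        (u 0 + u 1 * q + u 2 * q ^ 2 + u 3 * q ^ 3 : ℤ) = q ^ a * ((q : ℤ) ^ 2 + q + 1) → q ^ 2 - 1 ∣ i := by
      intro a u hu ha
      rw [hχ, lin_ev _ _ _ hu] at h1
      have h2 := dvd_of_pow hζo hq1 h1
      rw [ha] at h2
      have h4 := deg_three (a := a) hqZ h2
      rw [← sq_int hq1] at h4
      exact_mod_cast h4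
    rcases idx_three j hj h3 with rfl | rfl
    · refine key 0 _ val46 ?_
      simp
      ring
    · refine key 1 _ val47 ?_
      simp
      ring
  · intro i j hj h2 hi h1
    obtain ⟨c, hc, rfl⟩ := List.mem_map.1 (idx_two j hj h2)
    rw [hχ, lin_ev _ _ _ (tab_ok c hc)] at h1
    have h3 := dvd_of_pow hζo hq1 h1
    have h4 : ((q : ℤ) ^ 2 - 1) ∣ (i : ℤ) := by
      rw [← sq_int hq1]
      exact_mod_cast hi
    have h5 := deg_two hqZ (tab_cop q c hc) h4 h3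
    rw [← nn_int hq1] at h5
    exact_mod_cast h5

end Main

end Cfsg.Agent.H224.F4R.CovTor
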